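import Cfsg.Agent.H686.VO.Tools
import Cfsg.Agent.S2470
import Cfsg.Agent.H159.AlgUnits

/-!
# Blocks and elements of `PSL_n(q)` (helper686)
-/

set_option autoImplicit false
set_option linter.unusedSectionVars false

namespace Cfsg.Agent.H686.VO.PSL

open Cfsg Matrix Cfsg.Agent.H387.VO Cfsg.Agent.H620

variable {F : Type*} [Field F]

/-- the block diagonal matrix -/
def blkM (k l : ℕ) (A : Matrix (Fin k) (Fin k) F) (B : Matrix (Fin l) (Fin l) F) :
    Matrix (Fin (k + l)) (Fin (k + l)) F :=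
  Matrix.reindexAlgEquiv F F finSumFinEquiv (Matrix.fromBlocks A 0 0 B)

theorem blkM_mul (k l : ℕ) (A A' : Matrix (Fin k) (Fin k) F) (B B' : Matrix (Fin l) (Fin l) F) :
    blkM k l (A * A') (B * B') = blkM k l A B * blkM k l A' B' := by
  rw [blkM, blkM, blkM, ← map_mul, Matrix.fromBlocks_multiply]
  simp

theorem blkM_one (k l : ℕ) : blkM (F := F) k l 1 1 = 1 := by
  rw [blkM, Matrix.fromBlocks_one, map_one]

theorem det_blkM (k l : ℕ) (A : Matrix (Fin k) (Fin k) F) (B : Matrix (Fin l) (Fin l) F) :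
    (blkM k l A B).det = A.det * B.det := by
  rw [blkM, Matrix.det_reindexAlgEquiv, Matrix.det_fromBlocks_zero₂₁]

theorem blkM_castAdd (k l : ℕ) (A : Matrix (Fin k) (Fin k) F) (B : Matrix (Fin l) (Fin l) F) (i j : Fin k) :
    blkM k l A B (Fin.castAdd l i) (Fin.castAdd l j) = A i j := by
  simp [blkM]

theorem blkM_natAdd (k l : ℕ) (A : Matrix (Fin k) (Fin k) F) (B : Matrix (Fin l) (Fin l) F) (i j : Fin l) :
    blkM k l A B (Fin.natAdd k i) (Fin.natAdd k j) = B i j := by
  simp [blkM]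

/-- the block embedding -/
def emb (k l : ℕ) (F : Type*) [Field F] :
    Matrix.SpecialLinearGroup (Fin k) F × Matrix.SpecialLinearGroup (Fin l) F →* Matrix.SpecialLinearGroup (Fin (k + l)) F where
  toFun x := ⟨blkM k l x.1 x.2, by rw [det_blkM, x.1.2, x.2.2, one_mul]⟩
  map_one' := Subtype.ext (blkM_one k l)
  map_mul' x y := Subtype.ext (blkM_mul k l _ _ _ _)

/-- the projection -/
def pr (n : ℕ) (F : Type*) [Field F] : Matrix.SpecialLinearGroup (Fin n) F →* ProjectiveSpecialLinearGroup (Fin n) F :=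
  QuotientGroup.mk' _

theorem scalar_of_pr {n : ℕ} {x : Matrix.SpecialLinearGroup (Fin n) F} (h : pr n F x = 1) :
    ∃ c : F, (x : Matrix (Fin n) (Fin n) F) = scalar (Fin n) c := by
  rw [pr, QuotientGroup.mk'_apply, QuotientGroup.eq_one_iff, Matrix.SpecialLinearGroup.mem_center_iff] at h
  obtain ⟨c, -, hc⟩ := h
  exact ⟨c, hc.symm⟩

/-- the first block in `PSL` -/
def i1 (k l : ℕ) (F : Type*) [Field F] : Matrix.SpecialLinearGroup (Fin k) F →* ProjectiveSpecialLinearGroup (Fin (k + l)) F :=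
  ((pr (k + l) F).comp (emb k l F)).comp (MonoidHom.inl _ _)

/-- the second block in `PSL` -/
def i2 (k l : ℕ) (F : Type*) [Field F] : Matrix.SpecialLinearGroup (Fin l) F →* ProjectiveSpecialLinearGroup (Fin (k + l)) F :=
  ((pr (k + l) F).comp (emb k l F)).comp (MonoidHom.inr _ _)

theorem i1_injective {k l : ℕ} (hl : 1 ≤ l) : Function.Injective (i1 k l F) := by
  rw [injective_iff_map_eq_one]
  intro a ha
  obtain ⟨c, hc⟩ := scalar_of_pr (x := emb k l F (a, 1)) ha
  have hc1 : blkM k l (a : Matrix (Fin k) (Fin k) F) 1 = scalar (Fin (k + l)) c := hc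
  have h1 : (1 : F) = c := by
    have := congrFun (congrFun hc1 (Fin.natAdd k ⟨0, hl⟩)) (Fin.natAdd k ⟨0, hl⟩)
    rw [blkM_natAdd] at this
    simpa using this
  apply Subtype.ext
  ext i j
  have := congrFun (congrFun hc1 (Fin.castAdd l i)) (Fin.castAdd l j)
  rw [blkM_castAdd] at this
  rw [this, ← h1]
  simp [Matrix.one_apply, Matrix.diagonal_apply]

theorem i2_injective {k l : ℕ} (hk : 1 ≤ k) : Function.Injective (i2 k l F) := by
  rw [injective_iff_map_eq_one]
  intro b hb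
  obtain ⟨c, hc⟩ := scalar_of_pr (x := emb k l F (1, b)) hb
  have hc1 : blkM k l 1 (b : Matrix (Fin l) (Fin l) F) = scalar (Fin (k + l)) c := hc
  have h1 : (1 : F) = c := by
    have := congrFun (congrFun hc1 (Fin.castAdd l ⟨0, hk⟩)) (Fin.castAdd l ⟨0, hk⟩)
    rw [blkM_castAdd] at this
    simpa using this
  apply Subtype.ext
  ext i j
  have := congrFun (congrFun hc1 (Fin.natAdd k i)) (Fin.natAdd k j)
  rw [blkM_natAdd] at this
  rw [this, ← h1]
  simp [Matrix.one_apply, Matrix.diagonal_apply]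

theorem i_comm {k l : ℕ} (a : Matrix.SpecialLinearGroup (Fin k) F) (b : Matrix.SpecialLinearGroup (Fin l) F) :
    i1 k l F a * i2 k l F b = i2 k l F b * i1 k l F a := by
  change pr (k + l) F (emb k l F (a, 1)) * pr (k + l) F (emb k l F (1, b)) =
    pr (k + l) F (emb k l F (1, b)) * pr (k + l) F (emb k l F (a, 1))
  rw [← map_mul, ← map_mul, ← map_mul, ← map_mul, Prod.mk_mul_mk, Prod.mk_mul_mk, one_mul, mul_one, one_mul,
    mul_one]

/-- products of elements of the two blocks -/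
theorem exists_prod {k l a b : ℕ} (hk : 1 ≤ k) (hl : 1 ≤ l) (ha : ∃ x : Matrix.SpecialLinearGroup (Fin k) F, orderOf x = a)
    (hb : ∃ x : Matrix.SpecialLinearGroup (Fin l) F, orderOf x = b) (hc : Nat.Coprime a b) :
    ∃ g : ProjectiveSpecialLinearGroup (Fin (k + l)) F, orderOf g = a * b := by
  obtain ⟨x, rfl⟩ := ha
  obtain ⟨y, rfl⟩ := hb
  have h1 : orderOf (i1 k l F x) = orderOf x := orderOf_injective _ (i1_injective hl) x
  have h2 : orderOf (i2 k l F y) = orderOf y := orderOf_injective _ (i2_injective hk) y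
  have h3 := exists_mul (i_comm x y) (by rw [h1, h2]; exact hc)
  rwa [h1, h2] at h3

theorem exists_fst {k l a : ℕ} (hl : 1 ≤ l) (ha : ∃ x : Matrix.SpecialLinearGroup (Fin k) F, orderOf x = a) :
    ∃ g : ProjectiveSpecialLinearGroup (Fin (k + l)) F, orderOf g = a := by
  obtain ⟨x, rfl⟩ := ha
  exact ⟨i1 k l F x, orderOf_injective _ (i1_injective hl) x⟩

/-! ### elements of `SL` -/

/-- the embedding of a block -/
def up (k l : ℕ) (F : Type*) [Field F] : Matrix.SpecialLinearGroup (Fin k) F →* Matrix.SpecialLinearGroup (Fin (k + l)) F :=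
  (emb k l F).comp (MonoidHom.inl _ _)

theorem up_injective (k l : ℕ) : Function.Injective (up k l F) := by
  intro a b h
  apply Subtype.ext
  ext i j
  have h1 : blkM k l (a : Matrix (Fin k) (Fin k) F) 1 = blkM k l (b : Matrix (Fin k) (Fin k) F) 1 :=
    congrArg Subtype.val h
  have := congrFun (congrFun h1 (Fin.castAdd l i)) (Fin.castAdd l j)
  rwa [blkM_castAdd, blkM_castAdd] at this

theorem exists_up {k l a : ℕ} (hkl : k ≤ l) (ha : ∃ x : Matrix.SpecialLinearGroup (Fin k) F, orderOf x = a) :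
    ∃ x : Matrix.SpecialLinearGroup (Fin l) F, orderOf x = a := by
  obtain ⟨j, rfl⟩ := Nat.exists_eq_add_of_le hkl
  obtain ⟨x, rfl⟩ := ha
  exact ⟨up k j F x, orderOf_injective _ (up_injective k j) x⟩

theorem exists_of_matrix {n : ℕ} {A : Matrix (Fin n) (Fin n) F} (hd : A.det = 1) {N : ℕ}
    (h : ∀ j : ℕ, A ^ j = 1 ↔ N ∣ j) : ∃ x : Matrix.SpecialLinearGroup (Fin n) F, orderOf x = N := by
  obtain ⟨x, hx⟩ : ∃ x : Matrix.SpecialLinearGroup (Fin n) F, (x : Matrix (Fin n) (Fin n) F) = A := ⟨⟨A, hd⟩, rfl⟩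
  refine ⟨x, S2470.orderOf_eq_of_forall fun j => ?_⟩
  rw [← h j, ← hx, ← Matrix.SpecialLinearGroup.coe_pow]
  constructor
  · intro h1
    rw [h1, Matrix.SpecialLinearGroup.coe_one]
  · intro h1
    exact Subtype.ext h1

theorem tvM_pow (n : ℕ) : (!![1, 1; 0, 1] : Matrix (Fin 2) (Fin 2) F) ^ n = !![1, (n : F); 0, 1] := by
  induction n with
  | zero => simp [Matrix.one_fin_two]
  | succ n ih =>
    rw [pow_succ, ih]
    ext i j
    fin_cases i <;> fin_cases j <;> simp [Matrix.mul_apply, Fin.sum_univ_two]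
    ring

/-- order `r` -/
theorem exists_r (r : ℕ) [CharP F r] : ∃ x : Matrix.SpecialLinearGroup (Fin 2) F, orderOf x = r := by
  refine exists_of_matrix (A := !![1, 1; 0, 1]) (by simp [Matrix.det_fin_two]) fun j => ?_
  rw [← CharP.cast_eq_zero_iff F r, tvM_pow]
  constructor
  · intro h
    have h1 := congrFun (congrFun h 0) 1
    simpa using h1
  · intro h
    rw [h, Matrix.one_fin_two]

/-- `r` odd: order `2 r` -/
theorem exists_two_r (r : ℕ) [hr : Fact r.Prime] [CharP F r] (hr2 : r ≠ 2) :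
    ∃ x : Matrix.SpecialLinearGroup (Fin 2) F, orderOf x = 2 * r := by
  have h20 : (2 : F) ≠ 0 := by
    intro h
    have h4 : ((2 : ℕ) : F) = 0 := by exact_mod_cast h
    rw [CharP.cast_eq_zero_iff F r] at h4
    exact hr2 ((Nat.prime_dvd_prime_iff_eq hr.out Nat.prime_two).1 h4)
  refine exists_of_matrix (A := -!![1, 1; 0, 1]) (by simp [Matrix.det_fin_two]) fun j => ?_
  have hco : Nat.Coprime 2 r := (Nat.coprime_primes Nat.prime_two hr.out).2 hr2.symm
  constructor
  · intro h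
    have h1 : (!![1, 1; 0, 1] : Matrix (Fin 2) (Fin 2) F) ^ j = (-1) ^ j := by
      have h3 : (-!![1, 1; 0, 1] : Matrix (Fin 2) (Fin 2) F) ^ j = (-1) ^ j * !![1, 1; 0, 1] ^ j := by
        rw [← neg_one_mul, Commute.mul_pow (Commute.neg_one_left _)]
      rw [h3] at h
      have h4 : ((-1 : Matrix (Fin 2) (Fin 2) F) ^ j) * (-1) ^ j = 1 := by
        rw [← pow_add, ← two_mul, pow_mul, neg_one_sq, one_pow]
      calc (!![1, 1; 0, 1] : Matrix (Fin 2) (Fin 2) F) ^ j = ((-1) ^ j * (-1) ^ j) * !![1, 1; 0, 1] ^ j := by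
            rw [h4, one_mul]
        _ = (-1) ^ j := by rw [mul_assoc, h, mul_one]
    rw [tvM_pow] at h1
    have hj : 2 ∣ j := by
      by_contra hodd
      have h5 : Odd j := Nat.not_even_iff_odd.1 fun h6 => hodd h6.two_dvd
      rw [h5.neg_one_pow] at h1
      have h6 := congrFun (congrFun h1 0) 0
      simp at h6
      apply h20
      linear_combination h6
    have h5 : Even j := (even_iff_two_dvd).2 hj
    rw [h5.neg_one_pow] at h1
    have h6 := congrFun (congrFun h1 0) 1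
    simp at h6
    exact hco.mul_dvd_of_dvd_of_dvd hj ((CharP.cast_eq_zero_iff F r j).1 h6)
  · rintro ⟨c, rfl⟩
    rw [mul_assoc, pow_mul, neg_sq, ← pow_mul, tvM_pow, Matrix.one_fin_two]
    push_cast
    rw [CharP.cast_eq_zero F r]
    simp

/-- `r = 2`: order `4` -/
theorem exists_four [CharP F 2] : ∃ x : Matrix.SpecialLinearGroup (Fin 3) F, orderOf x = 4 := by
  have h2 : (2 : F) = 0 := by exact_mod_cast CharP.cast_eq_zero F 2
  have hd : (!![1, 1, 0; 0, 1, 1; 0, 0, 1] : Matrix (Fin 3) (Fin 3) F).det = 1 := by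
    rw [Matrix.det_fin_three]
    simp
  have e2 : (!![1, 1, 0; 0, 1, 1; 0, 0, 1] : Matrix (Fin 3) (Fin 3) F) ^ 2 = !![1, 0, 1; 0, 1, 0; 0, 0, 1] := by
    rw [pow_two, Matrix.mul_fin_three]
    ext i j
    fin_cases i <;> fin_cases j <;> simp <;> linear_combination h2
  have e4 : (!![1, 0, 1; 0, 1, 0; 0, 0, 1] : Matrix (Fin 3) (Fin 3) F) ^ 2 = 1 := by
    rw [pow_two, Matrix.mul_fin_three, Matrix.one_fin_three]
    ext i j
    fin_cases i <;> fin_cases j <;> simp
    linear_combination h2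
  obtain ⟨x, hx⟩ : ∃ x : Matrix.SpecialLinearGroup (Fin 3) F,
    (x : Matrix (Fin 3) (Fin 3) F) = !![1, 1, 0; 0, 1, 1; 0, 0, 1] := ⟨⟨_, hd⟩, rfl⟩
  have h3 := orderOf_eq_prime_pow (x := x) (p := 2) (n := 1) (fun h => ?_) ?_
  · exact ⟨x, by rw [h3]; norm_num⟩
  · have h4 : (x : Matrix (Fin 3) (Fin 3) F) ^ 2 = 1 := by
      rw [← Matrix.SpecialLinearGroup.coe_pow, ← Matrix.SpecialLinearGroup.coe_one, ← h, pow_one]
    rw [hx, e2] at h4
    have h5 := congrFun (congrFun h4 0) 2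
    simp at h5
  · apply Subtype.ext
    have h4 : (x : Matrix (Fin 3) (Fin 3) F) ^ 4 = 1 := by
      rw [show 4 = 2 * 2 by norm_num, pow_mul, hx, e2, e4]
    have h5 : ((x ^ 4 : Matrix.SpecialLinearGroup (Fin 3) F) : Matrix (Fin 3) (Fin 3) F) = 1 := by
      rw [Matrix.SpecialLinearGroup.coe_pow, h4]
    exact h5

/-- an element of order divisible by `r`, other than `r` -/
theorem exists_big (r : ℕ) [hr : Fact r.Prime] [CharP F r] {l p : ℕ} (hl : 3 ≤ l) (hp5 : 5 ≤ p) (hp : p.Prime)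
    (hpr : p ≠ r) : ∃ N, r ∣ N ∧ N ≠ r ∧ Nat.Coprime p N ∧ ∃ x : Matrix.SpecialLinearGroup (Fin l) F, orderOf x = N := by
  have hp2 : Nat.Coprime p 2 := (Nat.coprime_primes hp Nat.prime_two).2 (by omega)
  by_cases hr2 : r = 2
  · subst hr2
    refine ⟨4, by norm_num, by norm_num, ?_, exists_up hl exists_four⟩
    exact Nat.Coprime.pow_right 2 hp2
  · refine ⟨2 * r, dvd_mul_left _ _, ?_, ?_, exists_up (by omega) (exists_two_r r hr2)⟩
    · have := hr.out.pos
      omega
    · exact Nat.Coprime.mul_right hp2 ((Nat.coprime_primes hp hr.out).2 hpr)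

variable [Fintype F]

/-- elements of order `p ^ k` in `SL_e(q)`, `p ∤ q - 1` -/
theorem exists_pow (r : ℕ) [hr : Fact r.Prime] [CharP F r] {p e k : ℕ} (hp : p.Prime) (he : e ≠ 0)
    (h1 : ¬ p ∣ Fintype.card F - 1) (h : p ^ k ∣ Fintype.card F ^ e - 1) :
    ∃ x : Matrix.SpecialLinearGroup (Fin e) F, orderOf x = p ^ k := by
  classical
  obtain ⟨K, _, _, _, _, a, hd, ha, -⟩ := Cfsg.Agent.H159.exists_field_gen F r e he
  obtain ⟨c, hc⟩ := h
  have hc0 : Fintype.card F ^ e - 1 ≠ 0 := by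
    have : 1 < Fintype.card F ^ e := Nat.one_lt_pow he Fintype.one_lt_card
    omega
  have hc1 : c ≠ 0 := by
    rintro rfl
    rw [mul_zero] at hc
    exact hc0 hc
  have hb : orderOf (a ^ c) = p ^ k := by
    rw [orderOf_pow' a hc1, ha, hc, Nat.gcd_mul_left_left]
    exact Nat.mul_div_cancel _ (Nat.pos_of_ne_zero hc1)
  set b : Kˣ := a ^ c with hbdef
  let B := Module.finBasisOfFinrankEq F K hd
  have hdet : (Algebra.leftMulMatrix B (b : K)).det = 1 := by
    rw [← Algebra.norm_eq_matrix_det]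
    have h2 : (Algebra.norm F (b : K)) ^ p ^ k = 1 := by
      rw [← map_pow, ← Units.val_pow_eq_pow_val, ← hb, pow_orderOf_eq_one, Units.val_one, map_one]
    have hn0 : Algebra.norm F (b : K) ≠ 0 := by
      intro h0
      rw [h0, zero_pow (pow_pos hp.pos k).ne'] at h2
      exact zero_ne_one h2
    have h3 : (Algebra.norm F (b : K)) ^ (Fintype.card F - 1) = 1 := FiniteField.pow_card_sub_one_eq_one _ hn0
    have h4 : orderOf (Algebra.norm F (b : K)) ∣ Nat.gcd (p ^ k) (Fintype.card F - 1) :=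
      Nat.dvd_gcd (orderOf_dvd_of_pow_eq_one h2) (orderOf_dvd_of_pow_eq_one h3)
    rw [Nat.Coprime.gcd_eq_one (Nat.Coprime.pow_left k ((Nat.Prime.coprime_iff_not_dvd hp).2 h1)), Nat.dvd_one,
      orderOf_eq_one_iff] at h4
    exact h4
  refine exists_of_matrix hdet fun j => ?_
  rw [← hb, orderOf_dvd_iff_pow_eq_one, ← map_pow, ← Units.val_pow_eq_pow_val]
  constructor
  · intro h5
    apply Units.ext
    apply Algebra.leftMulMatrix_injective B
    rw [h5, Units.val_one, map_one]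
  · intro h5
    rw [h5, Units.val_one, map_one]

/-- the diagonal torus of `SL₂(q)` -/
theorem exists_diag {N : ℕ} (h : N ∣ Fintype.card F - 1) :
    ∃ x : Matrix.SpecialLinearGroup (Fin 2) F, orderOf x = N := by
  classical
  obtain ⟨a, ha⟩ := IsCyclic.exists_generator (α := Fˣ)
  have ha' : orderOf a = Fintype.card F - 1 := by
    rw [orderOf_eq_card_of_forall_mem_zpowers ha, Nat.card_units, Nat.card_eq_fintype_card]
  obtain ⟨c, hc⟩ := h
  have hc1 : c ≠ 0 := by
    rintro rfl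
    rw [mul_zero] at hc
    have : 2 ≤ Fintype.card F := Fintype.one_lt_card
    omega
  have hb : orderOf (a ^ c) = N := by
    rw [orderOf_pow' a hc1, ha', hc, Nat.gcd_mul_left_left]
    exact Nat.mul_div_cancel _ (Nat.pos_of_ne_zero hc1)
  set b : Fˣ := a ^ c
  have hd : (!![(b : F), 0; 0, ((b⁻¹ : Fˣ) : F)] : Matrix (Fin 2) (Fin 2) F).det = 1 := by
    rw [Matrix.det_fin_two]
    simp
  have hpow : ∀ j : ℕ, (!![(b : F), 0; 0, ((b⁻¹ : Fˣ) : F)] : Matrix (Fin 2) (Fin 2) F) ^ j =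
      !![((b ^ j : Fˣ) : F), 0; 0, (((b ^ j)⁻¹ : Fˣ) : F)] := by
    intro j
    induction j with
    | zero => simp [Matrix.one_fin_two]
    | succ j ih =>
      rw [pow_succ, ih]
      ext i k
      fin_cases i <;> fin_cases k <;> simp [Matrix.mul_apply, Fin.sum_univ_two, pow_succ, mul_comm]
  refine exists_of_matrix hd fun j => ?_
  rw [← hb, orderOf_dvd_iff_pow_eq_one, hpow]
  constructor
  · intro h5
    have h6 := congrFun (congrFun h5 0) 0
    apply Units.ext
    simpa using h6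
  · intro h5
    rw [h5, inv_one, Units.val_one, Matrix.one_fin_two]

end Cfsg.Agent.H686.VO.PSL
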