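import Cfsg.Agent.H686.VO.SpFour
import Cfsg.Agent.H690.LieRow
import Cfsg.Agent.H163.Steinberg

/-!
# The row `PSp_{2m}(q)` of S4987 (helper686)
-/

set_option autoImplicit false

namespace Cfsg.Agent.H686.VO

open Cfsg Cfsg.Agent.H387.VO Cfsg.Agent.H620

/-- the Steinberg character -/
theorem kill_of_lie {K : Type*} [Group K] [Finite K] [IsSimpleGroup K] {p : ℕ} (hp : p.Prime)
    (h : IsLieTypeChar p K) : Kill K p := by
  have : Fact p.Prime := ⟨hp⟩
  obtain ⟨χ, hχ, h1⟩ := Cfsg.Agent.H163.Steinberg.exists_irr_of_hasSplit (H690.LieRow.hasSplit hp h)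
  have P : Sylow p K := default
  refine kill_of_dvd p hχ (Nat.card P) (h1 P).1 ?_
  rw [P.card_eq_multiplicity]

/-- **The row `PSp_{2m}(q)`.** -/
theorem row_psp {K : Type*} [Group K] [Finite K] [IsSimpleGroup K] {r : ℕ} (hr : r.Prime) (h : IsPSpChar r K)
    {p : ℕ} [Fact p.Prime] (hp5 : 5 ≤ p) (hpr : p ≠ r) (hd : p ∣ Nat.card K) : Row p K := by
  have hK : IsLieTypeChar r K := Or.inr (Or.inl h)
  have hk := kill_of_lie hr hK
  obtain ⟨F, _, _, _, m, hm, h3, ⟨e⟩⟩ := h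
  have : Fact r.Prime := ⟨hr⟩
  refine Row.mulEquiv (row_psp' (F := F) (r := r) hm h3 (hk.mulEquiv e) hp5 hpr ?_) e.symm
  rwa [← Nat.card_congr e.toEquiv]

end Cfsg.Agent.H686.VO
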