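import Cfsg.Agent.H686.VO.PSLDZ
import Cfsg.Agent.H686.VO.PSLEmb
import Cfsg.Agent.H686.VO.PSp
import Cfsg.Agent.H464.PslDeg

/-!
# The row `PSL_n(q)` of S4987 (helper686)
-/

set_option autoImplicit false
set_option linter.unusedSectionVars false

namespace Cfsg.Agent.H686.VO.PSL

open Cfsg Matrix Cfsg.Agent.H387.VO Cfsg.Agent.H620 Cfsg.Agent.H665.NoPQ

/-- orders `p`, `p²` -/
theorem twoVan_pow {S : Type*} [Group S] {p : ℕ} [hp : Fact p.Prime] (hk : Kill S p)
    (h : ∃ x : S, orderOf x = p ^ 2) : TwoVan p S := by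
  obtain ⟨x, hx⟩ := h
  have h1 : orderOf (x ^ p) = p := by
    rw [orderOf_pow' x hp.out.ne_zero, hx, Nat.gcd_eq_right (dvd_pow_self p two_ne_zero), sq,
      Nat.mul_div_cancel _ hp.out.pos]
  refine twoVan_of_kill hk ⟨_, h1⟩ ⟨x, hx⟩ dvd_rfl (dvd_pow_self p two_ne_zero) dvd_rfl (dvd_pow_self p two_ne_zero) ?_
  intro h2
  have h3 : p * 1 = p * p := by rw [mul_one, ← sq]; exact h2
  exact hp.out.one_lt.ne (Nat.eq_of_mul_eq_mul_left hp.out.pos h3)

theorem mul_ne {p r : ℕ} (hp : p.Prime) (hr : r.Prime) : p ≠ p * r := by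
  intro h
  have h3 : p * 1 = p * r := by rw [mul_one]; exact h
  exact hr.one_lt.ne (Nat.eq_of_mul_eq_mul_left hp.pos h3)

variable {F : Type*} [Field F] [Fintype F] {r p : ℕ} [hr : Fact r.Prime] [CharP F r] [hp : Fact p.Prime]

/-- `p ∣ q - 1`, `n ≥ 5` -/
theorem one_five {l : ℕ} (hl : 3 ≤ l) (hp5 : 5 ≤ p) (hpr : p ≠ r)
    (hk : Kill (ProjectiveSpecialLinearGroup (Fin (2 + l)) F) r) (h1 : p ∣ Fintype.card F - 1) :
    TwoVan p (ProjectiveSpecialLinearGroup (Fin (2 + l)) F) := by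
  obtain ⟨N, hrN, hNr, hcN, hN⟩ := exists_big (F := F) r hl hp5 hp.out hpr
  have hs := exists_diag h1
  have hc : Nat.Coprime p r := (Nat.coprime_primes hp.out hr.out).2 hpr
  refine twoVan_of_kill hk (exists_prod (k := 2) (l := l) (by norm_num) (by omega) hs (exists_up (by omega) (exists_r r)) hc)
    (exists_prod (k := 2) (l := l) (by norm_num) (by omega) hs hN hcN) (dvd_mul_right _ _) (dvd_mul_right _ _)
    (dvd_mul_left _ _) (hrN.mul_left _) ?_
  intro h
  exact hNr (Nat.eq_of_mul_eq_mul_left hp.out.pos h).symm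

/-- `p ∣ q - 1`, `n = 4` -/
theorem one_four (hp5 : 5 ≤ p) (hpr : p ≠ r) (h1 : p ∣ Fintype.card F - 1) :
    TwoVan p (ProjectiveSpecialLinearGroup (Fin (2 + 2)) F) := by
  have hdz : HasDZ p (ProjectiveSpecialLinearGroup (Fin (2 + 2)) F) := hasDZ_of_dvd (r := r) hpr (by norm_num) h1
    (fun h => by have := Nat.le_of_dvd (by norm_num) h; omega)
  have hs := exists_diag h1
  have hc : Nat.Coprime p r := (Nat.coprime_primes hp.out hr.out).2 hpr
  exact twoVan_of_kill (kill_of_hasDZ hdz) (exists_fst (by norm_num) hs)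
    (exists_prod (k := 2) (l := 2) (by norm_num) (by norm_num) hs (exists_r r) hc) dvd_rfl (dvd_mul_right _ _)
    dvd_rfl (dvd_mul_right _ _) (mul_ne hp.out hr.out)

/-- `p ∣ q - 1`, `n = 3` -/
theorem one_three (hp5 : 5 ≤ p) (hpr : p ≠ r) (h1 : p ∣ Fintype.card F - 1) :
    TwoVan p (ProjectiveSpecialLinearGroup (Fin (2 + 1)) F) := by
  have hdz : HasDZ p (ProjectiveSpecialLinearGroup (Fin (2 + 1)) F) := hasDZ_of_dvd (r := r) hpr (by norm_num) h1
    (fun h => by have := Nat.le_of_dvd (by norm_num) h; omega)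
  have hs := exists_diag h1
  -- an element of order `p r`
  obtain ⟨a, ha⟩ := exists_prime_orderOf_dvd_card' (G := Fˣ) p (by
    rw [Nat.card_units, Nat.card_eq_fintype_card]; exact h1)
  have ha3 : orderOf ((a : F) ^ 3) = p := by
    have h2 : orderOf (a ^ 3) = p := by
      rw [Nat.Coprime.orderOf_pow, ha]
      rw [ha]
      exact (Nat.coprime_primes hp.out Nat.prime_three).2 (by omega)
    rw [← h2, ← Units.val_pow_eq_pow_val, orderOf_units]
  obtain ⟨g, hg⟩ := S2470.exists_three (F := F) r (r := p) hp.out hpr (a : F) ha3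
  exact twoVan_of_kill (kill_of_hasDZ hdz) (exists_fst (by norm_num) hs) ⟨g, hg⟩ dvd_rfl (dvd_mul_right _ _)
    dvd_rfl (dvd_mul_right _ _) (mul_ne hp.out hr.out)

/-- an element of order `p²` in `PSL_n(q)`, `p ∤ m` where `m` kills the centre -/
theorem exists_mk {n m : ℕ} (hm : ¬ p ∣ m)
    (hZ : ∀ z ∈ Subgroup.center (Matrix.SpecialLinearGroup (Fin n) F), z ^ m = 1) {k : ℕ}
    (h : ∃ x : Matrix.SpecialLinearGroup (Fin n) F, orderOf x = p ^ k) :
    ∃ x : ProjectiveSpecialLinearGroup (Fin n) F, orderOf x = p ^ k := by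
  obtain ⟨x, hx⟩ := h
  exact ⟨_, orderOf_mk (Subgroup.center (Matrix.SpecialLinearGroup (Fin n) F)) hm hZ hx⟩

theorem center_pow {n : ℕ} (hn : 0 < n) (z : Matrix.SpecialLinearGroup (Fin n) F)
    (hz : z ∈ Subgroup.center (Matrix.SpecialLinearGroup (Fin n) F)) : z ^ (Fintype.card F - 1) = 1 ∧ z ^ n = 1 := by
  rw [Matrix.SpecialLinearGroup.mem_center_iff] at hz
  obtain ⟨c, hc1, hc⟩ := hz
  have hc0 : c ≠ 0 := by
    rintro rfl
    rw [Fintype.card_fin, zero_pow hn.ne'] at hc1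
    exact zero_ne_one hc1
  have key : ∀ j : ℕ, c ^ j = 1 → z ^ j = 1 := by
    intro j hj
    apply Subtype.ext
    have h1 : ((z ^ j : Matrix.SpecialLinearGroup (Fin n) F) : Matrix (Fin n) (Fin n) F) = 1 := by
      rw [Matrix.SpecialLinearGroup.coe_pow, ← hc, ← map_pow, hj, map_one]
    exact h1
  refine ⟨key _ (FiniteField.pow_card_sub_one_eq_one c hc0), key _ ?_⟩
  rwa [Fintype.card_fin] at hc1

/-- `n = 2` -/
theorem row_two (h4 : 4 ≤ Fintype.card F) (hp5 : 5 ≤ p) (hpr : p ≠ r)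
    (hd : p ∣ Nat.card (ProjectiveSpecialLinearGroup (Fin 2) F)) :
    Row p (ProjectiveSpecialLinearGroup (Fin 2) F) := by
  by_cases hsq : p ^ 2 ∣ Nat.card (ProjectiveSpecialLinearGroup (Fin 2) F)
  swap
  · exact row_of_not_sq hd hsq
  right; right
  have hfin : Finite (ProjectiveSpecialLinearGroup (Fin 2) F) := inferInstance
  have key : ∀ N, p ^ N ∣ Nat.card (ProjectiveSpecialLinearGroup (Fin 2) F) →
      p ^ N ∣ (Fintype.card F + 1) * (Fintype.card F - 1) := by
    intro N hN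
    have h1 := pow_dvd (F := F) (r := r) (m := 0) hp.out hpr hN
    have := Nat.sq_sub_sq (Fintype.card F) 1
    rw [one_pow] at this
    rw [← this]
    simpa using h1
  have h2 := key 2 hsq
  have h3 := key _ (Nat.ordProj_dvd _ p)
  have h7 : 7 ≤ Fintype.card F := by
    by_contra h7
    push Not at h7
    have h8 : p ^ 2 ≤ (Fintype.card F + 1) * (Fintype.card F - 1) := Nat.le_of_dvd (Nat.mul_pos (by omega) (by omega)) h2
    have h9 : (Fintype.card F + 1) * (Fintype.card F - 1) ≤ 7 * 5 := Nat.mul_le_mul (by omega) (by omega)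
    have h10 : p ∣ (Fintype.card F + 1) * (Fintype.card F - 1) := (dvd_pow_self p two_ne_zero).trans h2
    have h11 : 5 ^ 2 ≤ p ^ 2 := Nat.pow_le_pow_left hp5 2
    have h12 : p < 6 := by nlinarith
    have h13 : p = 5 := by omega
    subst h13
    have h14 : Fintype.card F = 4 ∨ Fintype.card F = 5 ∨ Fintype.card F = 6 := by omega
    rcases h14 with h | h | h <;> rw [h] at h2 <;> revert h2 <;> decide
  obtain ⟨hd1, hd2⟩ := Cfsg.Agent.H464.PslDeg.psl_degrees h7
  have hnot : ¬ (p ∣ Fintype.card F + 1 ∧ p ∣ Fintype.card F - 1) := by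
    rintro ⟨h5, h6⟩
    have h8 := Nat.dvd_sub h5 h6
    rw [show Fintype.card F + 1 - (Fintype.card F - 1) = 2 by omega] at h8
    have := Nat.le_of_dvd (by norm_num) h8
    omega
  have hp2 : ¬ p ∣ 2 := fun h => by
    have := Nat.le_of_dvd (by norm_num) h
    omega
  have hZ2 : ∀ z ∈ Subgroup.center (Matrix.SpecialLinearGroup (Fin 2) F), z ^ 2 = 1 := fun z hz =>
    (center_pow (by norm_num) z hz).2
  by_cases h5 : p ∣ Fintype.card F - 1
  · have h6 : ¬ p ∣ Fintype.card F + 1 := fun h => hnot ⟨h, h5⟩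
    have hco := fun N => Nat.Coprime.pow_left N ((Nat.Prime.coprime_iff_not_dvd hp.out).2 h6)
    obtain ⟨χ, hχ, hχ1⟩ := Cfsg.Agent.H681.DegBasic.mem_charDegrees.1 hd2
    have hdz : HasDZ p (ProjectiveSpecialLinearGroup (Fin 2) F) :=
      hasDZ_of_deg hχ hχ1 ((hco _).dvd_of_dvd_mul_left h3)
    exact twoVan_pow (kill_of_hasDZ hdz) (exists_mk hp2 hZ2 (exists_diag ((hco 2).dvd_of_dvd_mul_left h2)))
  · have hco := fun N => Nat.Coprime.pow_left N ((Nat.Prime.coprime_iff_not_dvd hp.out).2 h5)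
    obtain ⟨χ, hχ, hχ1⟩ := Cfsg.Agent.H681.DegBasic.mem_charDegrees.1 hd1
    have hdz : HasDZ p (ProjectiveSpecialLinearGroup (Fin 2) F) :=
      hasDZ_of_deg hχ hχ1 ((hco _).dvd_of_dvd_mul_right h3)
    refine twoVan_pow (kill_of_hasDZ hdz) (exists_mk hp2 hZ2 (exists_pow r hp.out two_ne_zero h5 ?_))
    have := Nat.sq_sub_sq (Fintype.card F) 1
    rw [one_pow] at this
    rw [this]
    exact ((hco 2).dvd_of_dvd_mul_right h2).mul_right _

/-- `p ∤ q - 1`, `n ≥ 3` -/
theorem row_large {n : ℕ} (hn : 3 ≤ n) (hpr : p ≠ r) (h1 : ¬ p ∣ Fintype.card F - 1)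
    (hd : p ∣ Nat.card (ProjectiveSpecialLinearGroup (Fin n) F)) :
    Row p (ProjectiveSpecialLinearGroup (Fin n) F) := by
  classical
  by_cases hsq : p ^ 2 ∣ Nat.card (ProjectiveSpecialLinearGroup (Fin n) F)
  swap
  · exact row_of_not_sq hd hsq
  right; right
  have hk := kill_of_hasDZ (hasDZ_of_not_dvd (F := F) (r := r) hpr hn h1)
  have hc : Nat.Coprime p r := (Nat.coprime_primes hp.out hr.out).2 hpr
  have hqr : 2 ≤ Fintype.card F := Fintype.one_lt_card
  -- the least `e ≥ 2` with `p ∣ q ^ e - 1`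
  have hex : ∃ e, e ≠ 0 ∧ p ∣ Fintype.card F ^ e - 1 := by
    refine ⟨p - 1, by have := hp.out.two_le; omega, ?_⟩
    have hq0 : ((Fintype.card F : ℕ) : ZMod p) ≠ 0 := by
      intro h
      rw [ZMod.natCast_eq_zero_iff] at h
      obtain ⟨n, -, hn⟩ := FiniteField.card F r
      rw [hn] at h
      exact hpr ((Nat.prime_dvd_prime_iff_eq hp.out hr.out).1 (hp.out.dvd_of_dvd_pow h))
    rw [← ZMod.natCast_eq_zero_iff, Nat.cast_sub (Nat.one_le_pow _ _ (by omega)), Nat.cast_one,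
      sub_eq_zero, Nat.cast_pow]
    exact ZMod.pow_card_sub_one_eq_one hq0
  obtain ⟨e, ⟨he0, hpe⟩, hmin⟩ : ∃ e, (e ≠ 0 ∧ p ∣ Fintype.card F ^ e - 1) ∧
      ∀ i, i ≠ 0 → p ∣ Fintype.card F ^ i - 1 → e ≤ i := by
    refine ⟨Nat.find hex, Nat.find_spec hex, fun i hi hi' => Nat.find_min' hex ⟨hi, hi'⟩⟩
  have he2 : 2 ≤ e := by
    by_contra h
    have : e = 1 := by omega
    subst this
    rw [pow_one] at hpe
    exact h1 hpe
  obtain ⟨m, rfl⟩ : ∃ m, n = m + 2 := ⟨n - 2, by omega⟩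
  -- `e` divides the exponents
  have hdvd : ∀ i, i ≠ 0 → p ∣ Fintype.card F ^ i - 1 → e ∣ i := by
    intro i hi0 hi
    have h2 : ∀ j, p ∣ Fintype.card F ^ j - 1 ↔ ((Fintype.card F : ℕ) : ZMod p) ^ j = 1 := by
      intro j
      rw [← ZMod.natCast_eq_zero_iff, Nat.cast_sub (Nat.one_le_pow _ _ (by omega)), Nat.cast_one,
        sub_eq_zero, Nat.cast_pow]
    have h3 : orderOf ((Fintype.card F : ℕ) : ZMod p) = e := by
      apply le_antisymm
      · exact Nat.le_of_dvd (by omega) (orderOf_dvd_of_pow_eq_one ((h2 e).1 hpe))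
      · refine hmin _ (fun h0 => ?_) ((h2 _).2 (pow_orderOf_eq_one _))
        have h4 := orderOf_dvd_of_pow_eq_one ((h2 e).1 hpe)
        rw [h0] at h4
        exact he0 (Nat.eq_zero_of_zero_dvd h4)
    rw [← h3]
    exact orderOf_dvd_of_pow_eq_one ((h2 i).1 hi)
  have hprod := pow_dvd (F := F) (r := r) (m := m) hp.out hpr hsq
  -- `e ≤ n`
  have hen : e ≤ m + 2 := by
    have h2 : p ∣ ∏ i ∈ Finset.range (m + 1), (Fintype.card F ^ (i + 2) - 1) :=
      (dvd_pow_self p two_ne_zero).trans hprod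
    obtain ⟨i, hi, hi'⟩ := (Prime.dvd_finsetProd_iff hp.out.prime _).1 h2
    rw [Finset.mem_range] at hi
    exact (hmin (i + 2) (by omega) hi').trans (by omega)
  obtain ⟨l, hl⟩ := Nat.exists_eq_add_of_le hen
  by_cases hl2 : 2 ≤ l
  · have hs := exists_pow (F := F) r (p := p) (k := 1) hp.out he0 h1 (by rwa [pow_one])
    rw [pow_one] at hs
    have key : ∀ n, n = e + l → Kill (ProjectiveSpecialLinearGroup (Fin n) F) p →
        TwoVan p (ProjectiveSpecialLinearGroup (Fin n) F) := by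
      rintro _ rfl hk
      exact twoVan_of_kill hk (exists_fst (by omega) hs)
        (exists_prod (k := e) (l := l) (by omega) (by omega) hs (exists_up hl2 (exists_r r)) hc) dvd_rfl (dvd_mul_right _ _)
        dvd_rfl (dvd_mul_right _ _) (mul_ne hp.out hr.out)
    exact key _ hl hk
  · -- `p²` divides `q^e - 1`
    have hpe2 : p ^ 2 ∣ Fintype.card F ^ e - 1 := by
      have h2 : ∀ i ∈ Finset.range (m + 1), i ≠ e - 2 → ¬ p ∣ Fintype.card F ^ (i + 2) - 1 := by
        intro i hi hie h3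
        rw [Finset.mem_range] at hi
        obtain ⟨c, hc⟩ := hdvd (i + 2) (by omega) h3
        have hc2 : c < 2 := by
          by_contra h4
          push Not at h4
          have : e * 2 ≤ e * c := Nat.mul_le_mul_left _ h4
          omega
        have hc1 : c = 1 := by
          rcases Nat.eq_zero_or_pos c with rfl | h
          · omega
          · omega
        subst hc1
        omega
      have h3 : e - 2 ∈ Finset.range (m + 1) := by rw [Finset.mem_range]; omega
      rw [← Finset.mul_prod_erase _ _ h3, show e - 2 + 2 = e by omega] at hprod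
      refine (Nat.Coprime.pow_left 2 ?_).dvd_of_dvd_mul_right hprod
      rw [Nat.Prime.coprime_iff_not_dvd hp.out, Prime.dvd_finsetProd_iff hp.out.prime]
      rintro ⟨i, hi, hi'⟩
      rw [Finset.mem_erase] at hi
      exact h2 i hi.2 hi.1 hi'
    have hs := exists_pow (F := F) r (p := p) (k := 2) hp.out he0 h1 hpe2
    refine twoVan_pow hk ?_
    rcases Nat.lt_or_ge l 1 with hl0 | hl1
    · have : l = 0 := by omega
      subst this
      rw [add_zero] at hl
      rw [← hl] at hs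
      exact exists_mk h1 (fun z hz => (center_pow (by omega) z hz).1) hs
    · have key : ∀ n, n = e + l → ∃ x : ProjectiveSpecialLinearGroup (Fin n) F, orderOf x = p ^ 2 := by
        rintro _ rfl
        exact exists_fst hl1 hs
      exact key _ hl

/-- **`PSL_n(q)`** -/
theorem row' {n : ℕ} (hn : 2 ≤ n) (h4 : n = 2 → 4 ≤ Fintype.card F)
    (hk : Kill (ProjectiveSpecialLinearGroup (Fin n) F) r) (hp5 : 5 ≤ p) (hpr : p ≠ r)
    (hd : p ∣ Nat.card (ProjectiveSpecialLinearGroup (Fin n) F)) :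
    Row p (ProjectiveSpecialLinearGroup (Fin n) F) := by
  rcases Nat.lt_or_ge n 3 with h | h
  · have : n = 2 := by omega
    subst this
    exact row_two (r := r) (h4 rfl) hp5 hpr hd
  · by_cases h1 : p ∣ Fintype.card F - 1
    · right; right
      rcases Nat.lt_or_ge n 5 with h5 | h5
      · have : n = 3 ∨ n = 4 := by omega
        rcases this with rfl | rfl
        · exact one_three (r := r) hp5 hpr h1
        · exact one_four (r := r) hp5 hpr h1
      · obtain ⟨l, rfl⟩ := Nat.exists_eq_add_of_le hn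
        exact one_five (r := r) (by omega) hp5 hpr hk h1
    · exact row_large (r := r) h hpr h1 hd

end Cfsg.Agent.H686.VO.PSL

namespace Cfsg.Agent.H686.VO

open Cfsg Cfsg.Agent.H387.VO Cfsg.Agent.H620

/-- **The row `PSL_n(q)`.** -/
theorem row_psl {K : Type*} [Group K] [Finite K] [IsSimpleGroup K] {r : ℕ} (hr : r.Prime) (h : IsPSLChar r K)
    {p : ℕ} [Fact p.Prime] (hp5 : 5 ≤ p) (hpr : p ≠ r) (hd : p ∣ Nat.card K) : Row p K := by
  have hK : IsLieTypeChar r K := Or.inl h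
  have hk := kill_of_lie hr hK
  obtain ⟨F, _, _, _, n, hn, h4, ⟨e⟩⟩ := h
  have : Fact r.Prime := ⟨hr⟩
  refine Row.mulEquiv (PSL.row' (F := F) (r := r) hn h4 (hk.mulEquiv e) hp5 hpr ?_) e.symm
  rwa [← Nat.card_congr e.toEquiv]

end Cfsg.Agent.H686.VO
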