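import Cfsg.Agent.H714.AltMore
import Cfsg.Agent.H387.VO.Main

/-!
# S4987: the row of the alternating groups (helper686, task 3069)

* `twoVan_alt` : `TwoVan p A_n` for `2 p ≤ n`, `5 ≤ p`;
* `row_alt` : `Row p A_n`, `row_iso`.
-/

set_option autoImplicit false

namespace Cfsg.Agent.H686.VO.Alt

open Cfsg Cfsg.Agent.H387.VO

/-- two types with different orders -/
theorem of_types {n p : ℕ} (hn : 7 ≤ n) (m m' : Multiset ℕ)
    (hm : m.sum = n - 1 ∨ m.sum = n ∧ 2 ∉ m) (h2 : ∀ a ∈ m, 2 ≤ a) (he : Even (m.sum + Multiset.card m))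
    (hm' : m'.sum = n - 1 ∨ m'.sum = n ∧ 2 ∉ m') (h2' : ∀ a ∈ m', 2 ≤ a) (he' : Even (m'.sum + Multiset.card m'))
    (hp : p ∈ m) (hp' : p ∈ m') (hne : m.lcm ≠ m'.lcm) : TwoVan p (alternatingGroup (Fin n)) := by
  obtain ⟨x, hx, hxo, -⟩ := Cfsg.Agent.H714.AltMore.exists_vz_type hn m hm h2 he
  obtain ⟨y, hy, hyo, -⟩ := Cfsg.Agent.H714.AltMore.exists_vz_type hn m' hm' h2' he'
  refine TwoVan.of_order ?_ ?_ hx hy (by rw [hxo, hyo]; exact hne)
  · rw [hxo]; exact Multiset.dvd_lcm hp
  · rw [hyo]; exact Multiset.dvd_lcm hp'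

theorem odd_lcm {m : Multiset ℕ} (h : ∀ a ∈ m, Odd a) : Odd m.lcm := by
  induction m using Multiset.induction with
  | empty => rw [Multiset.lcm_zero]; exact odd_one
  | cons a m ih =>
    rw [Multiset.lcm_cons, ← Nat.not_even_iff_odd, even_iff_two_dvd]
    intro h2
    have h3 := (h2.trans (show GCDMonoid.lcm a m.lcm ∣ a * m.lcm from lcm_dvd (dvd_mul_right _ _) (dvd_mul_left _ _)))
    rcases Nat.prime_two.dvd_mul.1 h3 with h4 | h4
    · exact (Nat.not_even_iff_odd.2 (h a (Multiset.mem_cons_self _ _))) (even_iff_two_dvd.2 h4)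
    · exact (Nat.not_even_iff_odd.2 (ih fun b hb => h b (Multiset.mem_cons_of_mem hb))) (even_iff_two_dvd.2 h4)

theorem ne_of_parity {m m' : Multiset ℕ} (h : ∀ a ∈ m, Odd a) {a : ℕ} (ha : a ∈ m') (ha2 : Even a) : m.lcm ≠ m'.lcm := by
  intro e
  have h1 := odd_lcm h
  rw [e] at h1
  exact (Nat.not_even_iff_odd.2 h1) (ha2.trans_dvd (Multiset.dvd_lcm ha))

/-- **Two vanishing elements.** -/
theorem twoVan_alt {n p : ℕ} (hp : p.Prime) (h5 : 5 ≤ p) (hn : 2 * p ≤ n) : TwoVan p (alternatingGroup (Fin n)) := by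
  have hodd : Odd p := hp.odd_of_ne_two (by omega)
  obtain ⟨k, hk⟩ := hodd
  obtain ⟨r, rfl⟩ := Nat.exists_eq_add_of_le (show p ≤ n by omega)
  rcases Nat.even_or_odd r with ⟨l, hl⟩ | ⟨l, hl⟩
  · -- `n` odd
    by_cases h6 : r = 6
    · subst h6
      have hp5 : p = 5 := by omega
      subst hp5
      refine of_types (by norm_num) {5, 5} {5, 3, 3} (Or.inl rfl) (by decide) (by decide) (Or.inr ⟨rfl, by decide⟩)
        (by decide) (by decide) (by decide) (by decide) (by decide)
    · refine of_types (by omega) {p, r - 1} {p, 4, r - 4} (Or.inl ?_) ?_ ?_ (Or.inr ⟨?_, ?_⟩) ?_ ?_ (by simp) (by simp) ?_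
      · simp; omega
      · intro a ha; simp at ha; omega
      · simp only [Multiset.insert_eq_cons, Multiset.sum_cons, Multiset.sum_singleton, Multiset.card_cons,
          Multiset.card_singleton]
        exact ⟨k + l + 1, by omega⟩
      · simp; omega
      · simp only [Multiset.insert_eq_cons, Multiset.mem_cons, Multiset.mem_singleton]
        omega
      · intro a ha; simp at ha; omega
      · simp only [Multiset.insert_eq_cons, Multiset.sum_cons, Multiset.sum_singleton, Multiset.card_cons,
          Multiset.card_singleton]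
        exact ⟨k + l + 2, by omega⟩
      · refine ne_of_parity (a := 4) ?_ (by simp) (by decide)
        intro a ha
        simp at ha
        rcases ha with rfl | rfl
        · exact ⟨k, hk⟩
        · exact ⟨l - 1, by omega⟩
  · -- `n` even
    refine of_types (by omega) {p, r} {p, 2, r - 3} (Or.inr ⟨?_, ?_⟩) ?_ ?_ (Or.inl ?_) ?_ ?_ (by simp) (by simp) ?_
    · simp
    · simp only [Multiset.insert_eq_cons, Multiset.mem_cons, Multiset.mem_singleton]
      omega
    · intro a ha; simp at ha; omega
    · simp only [Multiset.insert_eq_cons, Multiset.sum_cons, Multiset.sum_singleton, Multiset.card_cons,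
        Multiset.card_singleton]
      exact ⟨k + l + 2, by omega⟩
    · simp; omega
    · intro a ha; simp at ha; omega
    · simp only [Multiset.insert_eq_cons, Multiset.sum_cons, Multiset.sum_singleton, Multiset.card_cons,
        Multiset.card_singleton]
      exact ⟨k + l + 2, by omega⟩
    · refine ne_of_parity (a := 2) ?_ (by simp) (by decide)
      intro a ha
      simp at ha
      rcases ha with rfl | rfl
      · exact ⟨k, hk⟩
      · exact ⟨l, hl⟩

/-- **The row of `A_n`.** -/
theorem row_alt {n p : ℕ} [hp : Fact p.Prime] (h5 : 5 ≤ p) (hd : p ∣ Nat.card (alternatingGroup (Fin n))) :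
    Row p (alternatingGroup (Fin n)) := by
  have hn2 : 2 ≤ n := by
    by_contra h
    have h1 : Subsingleton (alternatingGroup (Fin n)) := by
      have : Subsingleton (Fin n) := by
        interval_cases n
        · infer_instance
        · infer_instance
      infer_instance
    rw [Nat.card_of_subsingleton (1 : alternatingGroup (Fin n))] at hd
    exact hp.out.one_lt.ne' (Nat.dvd_one.1 hd)
  have : Nontrivial (Fin n) := Fin.nontrivial_iff_two_le.2 hn2
  have hcard : 2 * Nat.card (alternatingGroup (Fin n)) = n.factorial := by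
    have h := two_mul_nat_card_alternatingGroup (α := Fin n)
    rw [h, Nat.card_perm, Nat.card_eq_fintype_card, Fintype.card_fin]
  rcases Nat.lt_or_ge n (2 * p) with h | h
  · left
    have hpn : p ≤ n := by
      rw [← hp.out.dvd_factorial, ← hcard]
      exact hd.mul_left 2
    have h1 : (n.factorial).factorization p = 1 := by
      rw [Nat.factorization_factorial hp.out (b := 2) (by
        rw [Nat.log_lt_iff_lt_pow hp.out.one_lt (by omega)]
        nlinarith)]
      have : Finset.Ico 1 2 = {1} := by decide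
      rw [this, Finset.sum_singleton, pow_one]
      rw [Nat.div_eq_iff hp.out.pos]
      omega
    rw [← hcard, Nat.factorization_mul (by norm_num) Nat.card_pos.ne'] at h1
    have h2 : (2 : ℕ).factorization p = 0 := Nat.factorization_eq_zero_of_lt (by omega)
    simpa [h2] using h1
  · exact Or.inr (Or.inr (twoVan_alt hp.out h5 h))

/-- for groups isomorphic to `A_n` -/
theorem row_iso {K : Type*} [Group K] {n p : ℕ} (e : Nonempty (K ≃* alternatingGroup (Fin n))) [hp : Fact p.Prime]
    (h5 : 5 ≤ p) (hd : p ∣ Nat.card K) : Row p K := by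
  obtain ⟨e⟩ := e
  rw [Nat.card_congr e.toEquiv] at hd
  exact (row_alt h5 hd).mulEquiv e.symm

end Cfsg.Agent.H686.VO.Alt
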