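import Cfsg.Agent.H686.VO.PSpDZ
import Cfsg.Agent.H999.FxPSp

/-!
# The rows `PSp_{2m}(q)` of S4987, apart from `Sp₄(2^a)`, `p ∣ q² - 1` (helper686)
-/

set_option autoImplicit false
set_option linter.unusedSectionVars false

namespace Cfsg.Agent.H686.VO

open Cfsg Matrix Cfsg.Agent.H387.VO Cfsg.Agent.H620 Cfsg.Agent.H665.NoPQ Cfsg.Agent.H999.FxPSp Cfsg.Agent.H477.HC

section

variable {F : Type} [Field F] [Fintype F] {r : ℕ} [hr : Fact r.Prime] [CharP F r]

theorem dvd_card : r ∣ Fintype.card F := by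
  obtain ⟨n, -, hn⟩ := FiniteField.card F r
  rw [hn]
  exact dvd_pow_self _ n.ne_zero

/-- an element of order `r` in `Sp₂` -/
theorem exists_r : ∃ a : symplecticGroup (Fin 1) F, orderOf a = r :=
  exists_prime_orderOf_dvd_card' (G := symplecticGroup (Fin 1) F) r (by
    rw [card_one]
    exact Dvd.dvd.mul_right dvd_card _)

/-- orders `r N` -/
theorem exists_prod {l N : ℕ} (hl : 1 ≤ l) (hN : ∃ y : symplecticGroup (Fin l) F, orderOf y = N)
    (hrN : ¬ r ∣ N) : ∃ g : PSp (1 + l) F, orderOf g = r * N := by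
  obtain ⟨a, ha⟩ := exists_r (F := F) (r := r)
  obtain ⟨y, hy⟩ := hN
  have h1 : orderOf (i1 1 l F a) = r := by rw [orderOf_injective _ (i1_injective hl), ha]
  have h2 : orderOf (i2 1 l F y) = N := by rw [orderOf_injective _ (i2_injective le_rfl), hy]
  have h3 := exists_mul (i_comm a y).symm (by rw [h1, h2]; exact (Nat.Prime.coprime_iff_not_dvd hr.out).2 hrN)
  rwa [h1, h2] at h3

theorem exists_snd {l N : ℕ} (hN : ∃ y : symplecticGroup (Fin l) F, orderOf y = N) :
    ∃ g : PSp (1 + l) F, orderOf g = N := by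
  obtain ⟨y, hy⟩ := hN
  exact ⟨i2 1 l F y, by rw [orderOf_injective _ (i2_injective le_rfl), hy]⟩

/-- two orders divisible by `p r` -/
theorem twoVan_prod {l p N : ℕ} [hp : Fact p.Prime] (hl : 1 ≤ l) (hk : Kill (PSp (1 + l) F) r) (hpr : p ≠ r)
    (hN : ∃ y : symplecticGroup (Fin l) F, orderOf y = N) (hN0 : N ≠ 0) (hrN : ¬ r ∣ N) (hpN : p ∣ N)
    (hne : N ≠ p) : TwoVan p (PSp (1 + l) F) := by
  have h1 := exists_prod hl hN hrN
  have h2 := exists_prod (N := p) hl (H376.SpEmb.exists_of_dvd hN0 hpN hN)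
    (fun h => hpr ((Nat.prime_dvd_prime_iff_eq hr.out hp.out).1 h).symm)
  refine twoVan_of_kill hk h1 h2 (hpN.mul_left _) (dvd_mul_left _ _) (dvd_mul_right _ _) (dvd_mul_right _ _) ?_
  intro h
  exact hne (Nat.eq_of_mul_eq_mul_left hr.out.pos h)

/-- `p ∣ q² - 1`, apart from `Sp₄(2^a)` -/
theorem twoVan_small {l p : ℕ} [hp : Fact p.Prime] (hl : 1 ≤ l) (hk : Kill (PSp (1 + l) F) r) (hp5 : 5 ≤ p)
    (hpr : p ≠ r) (hpq : p ∣ Fintype.card F ^ 2 - 1) (h2 : l = 1 → r ≠ 2) : TwoVan p (PSp (1 + l) F) := by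
  have hq : Nat.card F = Fintype.card F := Nat.card_eq_fintype_card
  set q := Fintype.card F with hqdef
  have hq2 : 2 ≤ q := Fintype.one_lt_card
  have hrq : r ∣ q := dvd_card
  have hrl : r ∣ q ^ l := hrq.trans (dvd_pow_self _ (by omega))
  have hql : 1 ≤ q ^ l := Nat.one_le_pow _ _ (by omega)
  have h21 : q ^ 2 - 1 ∣ q ^ (2 * l) - 1 := by
    rw [pow_mul]
    simpa using Nat.sub_dvd_pow_sub_pow (q ^ 2) 1 l
  have e2 : q ^ 2 - 1 = (q + 1) * (q - 1) := by
    have := Nat.sq_sub_sq q 1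
    simpa using this
  -- `p ≤ q + 1`
  have hple : p ≤ q + 1 := by
    rw [e2] at hpq
    rcases hp.out.dvd_mul.1 hpq with h | h
    · exact Nat.le_of_dvd (by omega) h
    · exact (Nat.le_of_dvd (by omega) h).trans (by omega)
  have hbig : ∀ N, N = q ^ l + 1 ∨ N = q ^ l - 1 → N ≠ p := by
    intro N hN
    by_cases hl1 : l = 1
    · subst hl1
      rw [pow_one] at hN
      -- `N` is even
      have hr2 := h2 rfl
      have hodd : Odd q := by
        obtain ⟨n, -, hn⟩ := FiniteField.card F r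
        rw [hqdef, hn]
        exact (hr.out.odd_of_ne_two hr2).pow
      obtain ⟨k, hk⟩ := hodd
      rintro rfl
      rcases hp.out.eq_two_or_odd with h | h
      · omega
      · omega
    · have h4 : q ^ 2 ≤ q ^ l := Nat.pow_le_pow_right (by omega) (by omega)
      have h5 : q + 1 < q ^ 2 - 1 := by
        have : 3 ≤ q := by omega
        rw [e2]
        have h6 : 2 ≤ q - 1 := by omega
        nlinarith
      omega
  have hpl := hpq.trans h21
  rw [sq_sub] at hpl
  rcases hp.out.dvd_mul.1 hpl with h | h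
  · refine twoVan_prod (N := q ^ l + 1) hl hk hpr ?_ (by omega) ?_ h (hbig _ (Or.inl rfl))
    · rw [← hq]; exact H376.SpEmb.exists_plus F l (by omega)
    · intro hd
      have := (Nat.dvd_add_right hrl).1 hd
      exact hr.out.one_lt.ne' (Nat.dvd_one.1 this)
  · have hne : q ^ l - 1 ≠ 0 := by
      have : 2 ≤ q ^ l := hq2.trans (Nat.le_self_pow (by omega) q)
      omega
    refine twoVan_prod (N := q ^ l - 1) hl hk hpr ?_ hne ?_ h (hbig _ (Or.inr rfl))
    · rw [← hq]; exact H376.SpEmb.exists_minus F l (by omega)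
    · intro hd
      have h1 := Nat.dvd_sub hrl hd
      rw [show q ^ l - (q ^ l - 1) = 1 by omega] at h1
      exact hr.out.one_lt.ne' (Nat.dvd_one.1 h1)

/-- `p ∤ q² - 1` -/
theorem row_large {l p : ℕ} [hp : Fact p.Prime] (hl : 1 ≤ l) (h3 : l = 1 → 3 ≤ Fintype.card F) (hp5 : 5 ≤ p)
    (hpr : p ≠ r) (hpq : ¬ p ∣ Fintype.card F ^ 2 - 1) (hd : p ∣ Nat.card (PSp (1 + l) F)) :
    Row p (PSp (1 + l) F) := by
  classical
  by_cases hsq : p ^ 2 ∣ Nat.card (PSp (1 + l) F)
  swap
  · exact row_of_not_sq hd hsq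
  right; right
  have hq : Nat.card F = Fintype.card F := Nat.card_eq_fintype_card
  have hN := pow_dvd_prod F (m := 1 + l) (r := r) hp.out hpr hsq
  -- defect zero
  have hdz : HasDZ p (PSp (1 + l) F) := by
    refine hasDZ_psp F (r := r) (by omega) hpr (by rwa [hq]) (fun h => ?_) (fun h h' => ?_) (fun h h' => ?_)
    · have hl1 : l = 1 := by omega
      subst hl1
      have h4 := h3 rfl
      rw [hq]
      by_contra h5
      have h6 : Fintype.card F = 3 := by omega
      rw [hq, h6] at hN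
      have h7 : p ^ 2 ∣ 640 := by
        simpa [Finset.prod_range_succ] using hN
      have h8 : p ∣ 2 ^ 7 * 5 := (dvd_pow_self p two_ne_zero).trans h7
      rcases hp.out.dvd_mul.1 h8 with h9 | h9
      · have := (Nat.prime_dvd_prime_iff_eq hp.out Nat.prime_two).1 (hp.out.dvd_of_dvd_pow h9)
        omega
      · have := (Nat.prime_dvd_prime_iff_eq hp.out (by norm_num)).1 h9
        subst this
        revert h7
        decide
    · rintro rfl
      have hl1 : l = 2 := by omega
      subst hl1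
      rw [h'] at hN
      revert hN
      decide
    · rintro rfl
      have hl1 : l = 2 := by omega
      subst hl1
      rw [h'] at hN
      revert hN
      decide
  have hk := kill_of_hasDZ hdz
  by_cases hc : p ∣ Nat.card (symplecticGroup (Fin l) F)
  · -- `p ∣ |Sp(l)|`
    have hy : ∃ y : symplecticGroup (Fin l) F, orderOf y = p :=
      exists_prime_orderOf_dvd_card' (G := symplecticGroup (Fin l) F) p hc
    refine twoVan_of_kill hk (exists_snd hy) (exists_prod (r := r) hl hy
      (fun h => hpr ((Nat.prime_dvd_prime_iff_eq hr.out hp.out).1 h).symm)) dvd_rfl (dvd_mul_left _ _) dvd_rfl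
      (dvd_mul_left _ _) ?_
    intro h
    have h4 : p * 1 = p * r := by rw [mul_one, mul_comm]; exact h
    exact hr.out.one_lt.ne (Nat.eq_of_mul_eq_mul_left hp.out.pos h4)
  · -- an element of order `p²`
    have h4 : ¬ p ∣ ∏ i ∈ Finset.range l, (Nat.card F ^ (2 * (i + 1)) - 1) := by
      intro h
      apply hc
      rw [LieClassical.SympCount.card_symplecticGroup, ← hq]
      exact h.mul_left _
    have h5 : p ^ 2 ∣ (Nat.card F ^ (1 + l) + 1) * (Nat.card F ^ (1 + l) - 1) := by
      rw [add_comm 1 l, Finset.prod_range_succ] at hN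
      rw [← sq_sub, add_comm 1 l]
      exact (Nat.Coprime.pow_left _ ((Nat.Prime.coprime_iff_not_dvd hp.out).2 h4)).dvd_of_dvd_mul_left hN
    have hq2 : 2 ≤ Nat.card F := Finite.one_lt_card
    have hql : 2 ≤ Nat.card F ^ (1 + l) := hq2.trans (Nat.le_self_pow (by omega) _)
    have h6 : p ^ 2 ∣ Nat.card F ^ (1 + l) + 1 ∨ p ^ 2 ∣ Nat.card F ^ (1 + l) - 1 := by
      by_cases h7 : p ∣ Nat.card F ^ (1 + l) + 1
      · left
        refine (Nat.Coprime.pow_left _ ((Nat.Prime.coprime_iff_not_dvd hp.out).2 fun h8 => ?_)).dvd_of_dvd_mul_right h5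
        have h9 := Nat.dvd_sub h7 h8
        rw [show Nat.card F ^ (1 + l) + 1 - (Nat.card F ^ (1 + l) - 1) = 2 by omega] at h9
        have := Nat.le_of_dvd (by norm_num) h9
        omega
      · right
        exact (Nat.Coprime.pow_left _ ((Nat.Prime.coprime_iff_not_dvd hp.out).2 h7)).dvd_of_dvd_mul_left h5
    have h7 : ∃ z : symplecticGroup (Fin (1 + l)) F, orderOf z = p ^ 2 := by
      rcases h6 with h6 | h6
      · exact H376.SpEmb.exists_of_dvd (by omega) h6 (H376.SpEmb.exists_plus F (1 + l) (by omega))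
      · exact H376.SpEmb.exists_of_dvd (by omega) h6 (H376.SpEmb.exists_minus F (1 + l) (by omega))
    obtain ⟨z, hz⟩ := h7
    have hz1 : orderOf (z ^ p) = p ^ 1 := by
      rw [orderOf_pow' z hp.out.ne_zero, hz, Nat.gcd_eq_right (dvd_pow_self p two_ne_zero), sq, pow_one,
        Nat.mul_div_cancel _ hp.out.pos]
    have hZ : ∀ z ∈ Subgroup.center (symplecticGroup (Fin (1 + l)) F), z ^ 2 = 1 := fun z hz =>
      H376.SpEmb.center_pow z hz
    have hp2 : ¬ p ∣ 2 := fun h => by
      have := Nat.le_of_dvd (by norm_num) h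
      omega
    have o1 := orderOf_mk (Subgroup.center (symplecticGroup (Fin (1 + l)) F)) hp2 hZ hz1
    have o2 := orderOf_mk (Subgroup.center (symplecticGroup (Fin (1 + l)) F)) hp2 hZ hz
    refine twoVan_of_kill hk ⟨_, o1⟩ ⟨_, o2⟩ (dvd_pow_self p one_ne_zero) (dvd_pow_self p two_ne_zero)
      (dvd_pow_self p one_ne_zero) (dvd_pow_self p two_ne_zero) ?_
    intro h
    have := Nat.pow_right_injective hp.out.two_le h
    omega

end

end Cfsg.Agent.H686.VO
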