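import Cfsg.Agent.H686.VO.RankThree
import Cfsg.Agent.H686.VO.PSpRow
import Cfsg.Agent.H107.DZ.Points

/-!
# `t`-defect zero of `PSp₄(q)` for odd primes `t ∣ q + 1` (helper686)
-/

set_option autoImplicit false
set_option linter.unusedSectionVars false

namespace Cfsg.Agent.H686.VO

open Cfsg Cfsg.Agent.H387.VO Cfsg.Agent.H620 Cfsg.Agent.H665.NoPQ Cfsg.Agent.H690.Spor.RankThree Cfsg.Agent.H91 Cfsg.Agent.H91.Symp Cfsg.Agent.TitsThree Cfsg.Agent.TitsThree.SpIdent
open scoped LinearAlgebra.Projectivization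

section

variable {F : Type} [Field F] [Fintype F]

theorem rep_zero {v w : Fin 2 ⊕ Fin 2 → F} (hv : v ≠ 0) (hw : w ≠ 0) :
    sB 2 F (Projectivization.mk F v hv).rep (Projectivization.mk F w hw).rep = 0 ↔ sB 2 F v w = 0 := by
  obtain ⟨a, ha⟩ := Projectivization.exists_smul_eq_mk_rep F v hv
  obtain ⟨b, hb⟩ := Projectivization.exists_smul_eq_mk_rep F w hw
  rw [← ha, ← hb, Units.smul_def, Units.smul_def, map_smul, map_smul, LinearMap.smul_apply, smul_eq_mul,
    smul_eq_mul]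
  have h1 : (a : F) ≠ 0 := a.ne_zero
  have h2 : (b : F) ≠ 0 := b.ne_zero
  simp [h1, h2]

theorem single_ne (i : Fin 2 ⊕ Fin 2) : (Pi.single i 1 : Fin 2 ⊕ Fin 2 → F) ≠ 0 := by
  intro h
  have := congrFun h i
  simp at this

/-- a point -/
noncomputable def pt (i : Fin 2 ⊕ Fin 2) : ℙ F (Fin 2 ⊕ Fin 2 → F) :=
  Projectivization.mk F (Pi.single i 1) (single_ne i)

theorem pt_zero (i j : Fin 2 ⊕ Fin 2) : sB 2 F (pt (F := F) i).rep (pt (F := F) j).rep = 0 ↔
    Matrix.J (Fin 2) F i j = 0 := by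
  unfold pt
  rw [rep_zero, sB_apply, sympForm]
  simp

theorem pt_ne {i j : Fin 2 ⊕ Fin 2} (h : i ≠ j) : pt (F := F) i ≠ pt j := by
  intro h1
  unfold pt at h1
  rw [Projectivization.mk_eq_mk_iff] at h1
  obtain ⟨a, ha⟩ := h1
  have := congrFun ha j
  rw [Units.smul_def] at this
  simp [h.symm] at this

/-- **defect zero on points** -/
theorem hasDZ_four {t : ℕ} [ht : Fact t.Prime] (ht2 : t ≠ 2) (htq : t ∣ Fintype.card F + 1) :
    HasDZ t (PSp 2 F) := by
  classical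
  set q := Fintype.card F with hqdef
  have hq2 : 2 ≤ q := Fintype.one_lt_card
  have hk0 : 0 < q ^ 2 + q := by positivity
  have hcard : (1 + (q ^ 2 + q) + q ^ 3) * (q - 1) = q ^ (3 + 1) - 1 := by
    obtain ⟨c, hc⟩ : ∃ c, q = c + 1 := ⟨q - 1, by omega⟩
    rw [hc, Nat.add_sub_cancel]
    have : (c + 1) ^ (3 + 1) = (1 + ((c + 1) ^ 2 + (c + 1)) + (c + 1) ^ 3) * c + 1 := by ring
    rw [this, Nat.add_sub_cancel]
  obtain ⟨_, H⟩ := H107.DZ.Points.exists_r3 (F := F) (m := 2) (n := 3) (k := q ^ 2 + q) (by norm_num) hk0 hcard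
  rw [← hqdef] at H
  have hfin : Finite (ℙ F (Fin 2 ⊕ Fin 2 → F)) := by
    have h1 := H.cardn
    by_contra hcon
    rw [not_finite_iff_infinite] at hcon
    rw [Nat.card_eq_zero_of_infinite] at h1
    omega
  have := Fintype.ofFinite (ℙ F (Fin 2 ⊕ Fin 2 → F))
  obtain ⟨a, b, hab⟩ := H.exists_params
  have hp := H.params_eq hab
  have hb0 : 0 < b := by
    refine RankThree.pos_of_common hab (x := pt (Sum.inl 0)) (y := pt (Sum.inr 0)) (z := pt (Sum.inl 1)) (pt_ne (by simp)) ?_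
      ⟨pt_ne (by simp), ?_⟩ ⟨pt_ne (by simp), ?_⟩
    · rintro ⟨-, h⟩
      rw [pt_zero] at h
      simp [Matrix.J] at h
    · rw [pt_zero]
      simp [Matrix.J]
    · rw [pt_zero]
      simp [Matrix.J]
  -- `b = q + 1`
  have hp' : q * (q + 1) ^ 2 = (q + 1) * (1 + a) + q ^ 2 * b := by
    have h1 : q * (q * (q + 1) ^ 2) = q * ((q + 1) * (1 + a) + q ^ 2 * b) := by
      have e1 : q * (q * (q + 1) ^ 2) = (q ^ 2 + q) * (q ^ 2 + q) := by ring
      have e2 : q * ((q + 1) * (1 + a) + q ^ 2 * b) = (q ^ 2 + q) + (q ^ 2 + q) * a + q ^ 3 * b := by ring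
      rw [e1, e2, hp]
    exact Nat.eq_of_mul_eq_mul_left (by omega) h1
  have hb1 : q + 1 ∣ b := by
    have h1 : q + 1 ∣ q ^ 2 * b := by
      refine (Nat.dvd_add_right (dvd_mul_right (q + 1) (1 + a))).1 ?_
      rw [← hp', sq]
      exact ⟨q * (q + 1), by ring⟩
    refine (Nat.Coprime.pow_right 2 ?_).dvd_of_dvd_mul_left h1
    rw [Nat.coprime_self_add_left]
    exact Nat.coprime_one_left _
  obtain ⟨c, hc⟩ := hb1
  have hp2 : q * (q + 1) = (1 + a) + q ^ 2 * c := by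
    have h1 : (q + 1) * (q * (q + 1)) = (q + 1) * ((1 + a) + q ^ 2 * c) := by
      have e1 : (q + 1) * (q * (q + 1)) = q * (q + 1) ^ 2 := by ring
      rw [e1, hp', hc]
      ring
    exact Nat.eq_of_mul_eq_mul_left (by omega) h1
  have hc1 : c = 1 := by
    have h1 : c ≠ 0 := by
      rintro rfl
      rw [mul_zero] at hc
      omega
    have h2 : c < 2 := by
      by_contra h
      push Not at h
      have h3 : q ^ 2 * 2 ≤ q ^ 2 * c := Nat.mul_le_mul_left _ h
      nlinarith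
    omega
  subst hc1
  rw [mul_one] at hc hp2
  have ha1 : a + 1 = q := by nlinarith
  -- the degree
  have ha1Z : (a : ℤ) = q - 1 := by
    have : (a : ℤ) + 1 = q := by exact_mod_cast ha1
    linarith
  have hbZ : (b : ℤ) = q + 1 := by rw [hc]; push_cast; ring
  have hqZ : (2 : ℤ) ≤ q := by exact_mod_cast hq2
  obtain ⟨χ, f, hf, hfZ⟩ := RankThree.degree H hab (r := q - 1) (s := -(q + 1)) (by linarith)
    (by rw [ha1Z, hbZ]; ring) (by rw [hbZ]; push_cast; ring)
    (by push_cast; nlinarith [sq_nonneg (q : ℤ), pow_pos (show (0 : ℤ) < q by linarith) 3])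
    (by push_cast; nlinarith [sq_nonneg (q : ℤ), pow_pos (show (0 : ℤ) < q by linarith) 3,
      mul_nonneg (show (0 : ℤ) ≤ q - 1 by linarith) (show (0 : ℤ) ≤ q ^ 2 + q + q ^ 3 by positivity)])
  have hf2 : 2 * f = q * (q + 1) ^ 2 := by
    have h1 : (2 * q : ℤ) * f = (2 * q : ℤ) * 0 + q * (q * (q + 1) ^ 2) := by
      push_cast at hfZ
      linarith
    have h2 : (q : ℤ) * (2 * f) = q * (q * (q + 1) ^ 2) := by linarith
    have h3 := mul_left_cancel₀ (by linarith : (q : ℤ) ≠ 0) h2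
    exact_mod_cast h3
  have hfin2 : Finite (PSp 2 F) := inferInstance
  refine hasDZ_of_deg χ.2 hf ?_
  -- the order
  have hpN : t ^ (Nat.card (PSp 2 F)).factorization t ∣ (q + 1) ^ 2 := by
    obtain ⟨r, hr⟩ := CharP.exists F
    have hrp : r.Prime := CharP.char_is_prime F r
    have : Fact r.Prime := ⟨hrp⟩
    have htr : t ≠ r := by
      rintro rfl
      have h1 : t ∣ q := dvd_card
      have := (Nat.dvd_add_right h1).1 htq
      exact ht.out.one_lt.ne' (Nat.dvd_one.1 this)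
    have h1 := pow_dvd_prod F (m := 2) (r := r) ht.out htr (Nat.ordProj_dvd (Nat.card (PSp 2 F)) t)
    rw [Nat.card_eq_fintype_card (α := F), ← hqdef] at h1
    have h2 : ∏ i ∈ Finset.range 2, (q ^ (2 * (i + 1)) - 1) = ((q - 1) ^ 2 * (q ^ 2 + 1)) * (q + 1) ^ 2 := by
      obtain ⟨c, hc⟩ : ∃ c, q = c + 1 := ⟨q - 1, by omega⟩
      rw [hc, Finset.prod_range_succ, Finset.prod_range_one, Nat.add_sub_cancel]
      have e1 : (c + 1) ^ (2 * (0 + 1)) = c * (c + 2) + 1 := by ring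
      have e2 : (c + 1) ^ (2 * (1 + 1)) = c * (c + 2) * ((c + 1) ^ 2 + 1) + 1 := by ring
      rw [e1, e2, Nat.add_sub_cancel, Nat.add_sub_cancel]
      ring
    rw [h2] at h1
    refine (Nat.Coprime.pow_left _ ?_).dvd_of_dvd_mul_left h1
    rw [Nat.Prime.coprime_iff_not_dvd ht.out]
    intro h3
    have key2 : ¬ t ∣ 2 := fun h => ht2 ((Nat.prime_dvd_prime_iff_eq ht.out Nat.prime_two).1 h)
    rcases ht.out.dvd_mul.1 h3 with h3 | h3
    · have h4 := Nat.dvd_sub htq (ht.out.dvd_of_dvd_pow h3)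
      rw [show q + 1 - (q - 1) = 2 by omega] at h4
      exact key2 h4
    · -- `q² + 1 ≡ 2`
      have h4 : t ∣ (q + 1) * (q - 1) := htq.mul_right _
      have h5 : q ^ 2 + 1 = (q + 1) * (q - 1) + 2 := by
        obtain ⟨c, hc⟩ : ∃ c, q = c + 1 := ⟨q - 1, by omega⟩
        rw [hc, Nat.add_sub_cancel]
        ring
      rw [h5] at h3
      exact key2 ((Nat.dvd_add_right h4).1 h3)
  have h1 : t ^ (Nat.card (PSp 2 F)).factorization t ∣ 2 * f := by
    rw [hf2]
    exact hpN.mul_left _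
  exact (Nat.Coprime.pow_left _ ((Nat.coprime_primes ht.out Nat.prime_two).2 ht2)).dvd_of_dvd_mul_left h1

/-- `Sp₄(2^a)`, `p ∣ q² - 1` -/
theorem twoVan_four [hc : CharP F 2] {p : ℕ} [hp : Fact p.Prime] (hk : Kill (PSp 2 F) 2) (hp5 : 5 ≤ p)
    (hpq : p ∣ Fintype.card F ^ 2 - 1) : TwoVan p (PSp 2 F) := by
  have : Fact (Nat.Prime 2) := ⟨Nat.prime_two⟩
  have hq : Nat.card F = Fintype.card F := Nat.card_eq_fintype_card
  have h2q : 2 ∣ Fintype.card F := dvd_card
  set q := Fintype.card F with hqdef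
  have hq2 : 2 ≤ q := Fintype.one_lt_card
  have e2 : q ^ 2 - 1 = (q + 1) * (q - 1) := by
    have := Nat.sq_sub_sq q 1
    simpa using this
  have hy : ∃ y : Matrix.symplecticGroup (Fin 1) F, orderOf y = p :=
    exists_prime_orderOf_dvd_card' (G := Matrix.symplecticGroup (Fin 1) F) p (by
      rw [H999.FxPSp.card_one]
      exact Dvd.dvd.mul_left hpq _)
  have hp2 : ¬ 2 ∣ p := fun h => by
    have := (Nat.prime_dvd_prime_iff_eq Nat.prime_two hp.out).1 h
    omega
  have o2p : ∃ g : PSp 2 F, orderOf g = 2 * p := exists_prod (r := 2) (l := 1) le_rfl hy hp2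
  rw [e2] at hpq
  rcases hp.out.dvd_mul.1 hpq with h | h
  · -- `p ∣ q + 1`
    have hdz := kill_of_hasDZ (hasDZ_four (F := F) (t := p) (by omega) h)
    refine twoVan_of_kill hdz (exists_snd (l := 1) hy) o2p dvd_rfl (dvd_mul_left _ _) dvd_rfl (dvd_mul_left _ _) ?_
    omega
  · -- `p ∣ q - 1`
    obtain ⟨t, ht, htq⟩ := Nat.exists_prime_and_dvd (show q + 1 ≠ 1 by omega)
    have : Fact t.Prime := ⟨ht⟩
    have ht2 : t ≠ 2 := by
      rintro rfl
      omega
    have htp : t ≠ p := by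
      rintro rfl
      have h4 := Nat.dvd_sub htq h
      rw [show q + 1 - (q - 1) = 2 by omega] at h4
      have := Nat.le_of_dvd (by norm_num) h4
      omega
    have hdz := kill_of_hasDZ (hasDZ_four (F := F) (t := t) ht2 htq)
    have hz : ∃ z : Matrix.symplecticGroup (Fin 1) F, orderOf z = t :=
      exists_prime_orderOf_dvd_card' (G := Matrix.symplecticGroup (Fin 1) F) t (by
        rw [H999.FxPSp.card_one, ← hqdef, e2]
        exact Dvd.dvd.mul_left (htq.mul_right _) _)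
    have otp : ∃ g : PSp 2 F, orderOf g = t * p := by
      obtain ⟨y, hy⟩ := hy
      obtain ⟨z, hz⟩ := hz
      have h1 : orderOf (H999.FxPSp.i1 1 1 F z) = t := by
        rw [orderOf_injective _ (H999.FxPSp.i1_injective le_rfl), hz]
      have h2 : orderOf (H999.FxPSp.i2 1 1 F y) = p := by
        rw [orderOf_injective _ (H999.FxPSp.i2_injective le_rfl), hy]
      have h3 := exists_mul (H999.FxPSp.i_comm z y).symm (by
        rw [h1, h2]; exact (Nat.coprime_primes ht hp.out).2 htp)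
      rwa [h1, h2] at h3
    refine twoVan_of_kill_two hk hdz o2p otp (dvd_mul_left _ _) (dvd_mul_left _ _) (dvd_mul_right _ _)
      (dvd_mul_right _ _) ?_
    intro h
    exact ht2 (Nat.eq_of_mul_eq_mul_right hp.out.pos h).symm

/-- **`PSp_{2m}(q)`** -/
theorem row_psp' {r : ℕ} [hr : Fact r.Prime] [CharP F r] {m p : ℕ} [hp : Fact p.Prime] (hm : 2 ≤ m)
    (h3 : m = 2 → 3 ≤ Fintype.card F) (hk : Kill (PSp m F) r) (hp5 : 5 ≤ p) (hpr : p ≠ r)
    (hd : p ∣ Nat.card (PSp m F)) : Row p (PSp m F) := by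
  obtain ⟨l, rfl⟩ : ∃ l, m = 1 + l := ⟨m - 1, by omega⟩
  by_cases hpq : p ∣ Fintype.card F ^ 2 - 1
  · right; right
    by_cases h4 : l = 1 ∧ r = 2
    · obtain ⟨rfl, rfl⟩ := h4
      exact twoVan_four hk hp5 hpq
    · exact twoVan_small (by omega) hk hp5 hpr hpq (fun h1 h2 => h4 ⟨h1, h2⟩)
  · exact row_large (by omega) (fun h => h3 (by omega)) hp5 hpr hpq hd

end

end Cfsg.Agent.H686.VO
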