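import Cfsg.Agent.H686.VO.Tools
import Cfsg.Agent.H113.PSL.Main
import Cfsg.Agent.S0243

/-!
# Defect zero for `PSL_n(q)` (helper686)
-/

set_option autoImplicit false
set_option linter.unusedSectionVars false

namespace Cfsg.Agent.H686.VO.PSL

open Cfsg Matrix Cfsg.Agent.H665.NoPQ

variable {F : Type*} [Field F] [Fintype F]

theorem prod_gl {q : ℕ} (n : ℕ) :
    ∏ i : Fin n, (q ^ n - q ^ (i : ℕ)) = q ^ (n * (n - 1) / 2) * ∏ i ∈ Finset.range n, (q ^ (i + 1) - 1) := by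
  rw [Fin.prod_univ_eq_prod_range (fun i => q ^ n - q ^ i) n]
  have h1 : ∀ i ∈ Finset.range n, q ^ n - q ^ i = q ^ i * (q ^ (n - i) - 1) := by
    intro i hi
    rw [Finset.mem_range] at hi
    rw [Nat.mul_sub, ← pow_add, Nat.add_sub_cancel' hi.le, mul_one]
  rw [Finset.prod_congr rfl h1, Finset.prod_mul_distrib, Finset.prod_pow_eq_pow_sum, ← Finset.sum_range_id_mul_two]
  congr 1
  · rw [Nat.mul_div_cancel _ (by norm_num)]
  · rw [← Finset.prod_range_reflect]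
    refine Finset.prod_congr rfl fun i hi => ?_
    rw [Finset.mem_range] at hi
    congr 2
    omega

theorem card_psl (F : Type*) [Field F] [Fintype F] (m : ℕ) :
    Nat.gcd (m + 2) (Fintype.card F - 1) * Nat.card (ProjectiveSpecialLinearGroup (Fin (m + 2)) F) =
      Fintype.card F ^ ((m + 2) * (m + 2 - 1) / 2) * ∏ i ∈ Finset.range (m + 1), (Fintype.card F ^ (i + 2) - 1) := by
  have h := S0243.result (F := F) rfl (m + 2) (by omega)
  have hq : 2 ≤ Fintype.card F := Fintype.one_lt_card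
  rw [prod_gl, Finset.prod_range_succ', zero_add, pow_one, mul_left_comm, ← mul_assoc (_ ^ _),
    mul_comm _ (Fintype.card F - 1)] at h
  exact Nat.eq_of_mul_eq_mul_left (show 0 < Fintype.card F - 1 by omega) h

/-- the `p`-part of the order -/
theorem pow_dvd {r p : ℕ} [hr : Fact r.Prime] [CharP F r] (hp : p.Prime) (hpr : p ≠ r) {m N : ℕ}
    (h : p ^ N ∣ Nat.card (ProjectiveSpecialLinearGroup (Fin (m + 2)) F)) :
    p ^ N ∣ ∏ i ∈ Finset.range (m + 1), (Fintype.card F ^ (i + 2) - 1) := by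
  have h1 : p ^ N ∣ Fintype.card F ^ ((m + 2) * (m + 2 - 1) / 2) *
      ∏ i ∈ Finset.range (m + 1), (Fintype.card F ^ (i + 2) - 1) := by
    rw [← card_psl]
    exact h.mul_left _
  refine (Nat.Coprime.pow_left N ?_).dvd_of_dvd_mul_left h1
  rw [Nat.Prime.coprime_iff_not_dvd hp]
  intro h2
  obtain ⟨n, -, hn⟩ := FiniteField.card F r
  rw [hn] at h2
  exact hpr ((Nat.prime_dvd_prime_iff_eq hp hr.out).1 (hp.dvd_of_dvd_pow (hp.dvd_of_dvd_pow h2)))

theorem hasDZ_of_charDegree {S : Type*} [Group S] [Finite S] {p : ℕ} [hp : Fact p.Prime] (χ : IrrCharacter S)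
    (h : p ^ (Nat.card S).factorization p ∣ charDegree (χ : S → ℂ)) : HasDZ p S := by
  refine ⟨χ, le_antisymm ?_ ?_⟩
  · exact (Nat.factorization_le_iff_dvd (Cfsg.Agent.Blocks.Basic.charDegree_pos χ.2).ne' Nat.card_pos.ne').2
      (Cfsg.Agent.Blocks.Knorr.charDegree_dvd χ.2) p
  · exact (hp.out.pow_dvd_iff_le_factorization (Cfsg.Agent.Blocks.Basic.charDegree_pos χ.2).ne').1 h

/-- the cuspidal character -/
theorem hasDZ_cusp {r p : ℕ} [Fact r.Prime] [CharP F r] [hp : Fact p.Prime] (hpr : p ≠ r) {m : ℕ}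
    (hg : ¬ p ∣ Nat.gcd (m + 2) (Fintype.card F - 1))
    (h : ∀ A N : ℕ, p ^ N ∣ A * (Fintype.card F ^ (m + 2) - 1) → p ^ N ∣ A * (Fintype.card F - 1)) :
    HasDZ p (ProjectiveSpecialLinearGroup (Fin (m + 2)) F) := by
  obtain ⟨φ, t, ht, hφ⟩ := Cfsg.Agent.H113.PSL.Degrees.exists_cusp (F := F) (n := m + 2) (by omega)
    (Cfsg.Agent.H113.PSL.Main.hasCusp F (m + 2) (by omega))
  have hfin : Finite (ProjectiveSpecialLinearGroup (Fin (m + 2)) F) := inferInstance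
  refine hasDZ_of_charDegree φ ?_
  have h1 := pow_dvd (F := F) (r := r) (m := m) hp.out hpr
    (Nat.ordProj_dvd (Nat.card (ProjectiveSpecialLinearGroup (Fin (m + 2)) F)) p)
  rw [Finset.prod_range_succ] at h1
  have h2 := h _ _ h1
  rw [show m + 2 - 1 = m + 1 by omega, Finset.prod_range_succ', zero_add, pow_one] at hφ
  rw [← hφ] at h2
  exact (Nat.Coprime.pow_left _ ((Nat.Prime.coprime_iff_not_dvd hp.out).2 fun h3 => hg (h3.trans ht))).dvd_of_dvd_mul_right h2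

/-- the Harish-Chandra induced character -/
theorem hasDZ_hyper {r p : ℕ} [Fact r.Prime] [CharP F r] [hp : Fact p.Prime] (hpr : p ≠ r) {j : ℕ}
    (h1 : ¬ p ∣ Fintype.card F - 1) (h2 : ¬ p ∣ Fintype.card F ^ (j + 2) - 1) :
    HasDZ p (ProjectiveSpecialLinearGroup (Fin (j + 2 + 1)) F) := by
  obtain ⟨φ, t, ht, hφ⟩ := Cfsg.Agent.H113.PSL.Degrees.exists_hyper (F := F) (m := j + 2) (by omega)
    (Cfsg.Agent.H113.PSL.Main.hasCusp F (j + 2) (by omega))
  have hfin : Finite (ProjectiveSpecialLinearGroup (Fin (j + 2 + 1)) F) := inferInstance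
  refine hasDZ_of_charDegree φ ?_
  have h3 := pow_dvd (F := F) (r := r) (m := j + 1) hp.out hpr
    (Nat.ordProj_dvd (Nat.card (ProjectiveSpecialLinearGroup (Fin (j + 2 + 1)) F)) p)
  rw [Finset.prod_range_succ, Finset.prod_range_succ, mul_right_comm] at h3
  have h4 := (Nat.Coprime.pow_left _ ((Nat.Prime.coprime_iff_not_dvd hp.out).2 h2)).dvd_of_dvd_mul_right h3
  rw [show j + 2 - 1 = j + 1 by omega, Finset.prod_range_succ', zero_add, pow_one] at hφ
  have h5 : p ^ (Nat.card (ProjectiveSpecialLinearGroup (Fin (j + 2 + 1)) F)).factorization p ∣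
      charDegree (φ : ProjectiveSpecialLinearGroup (Fin (j + 2 + 1)) F → ℂ) * t * (Fintype.card F - 1) := by
    rw [hφ]
    refine h4.trans ?_
    rw [mul_comm, ← mul_assoc]
    exact dvd_mul_right _ _
  have h6 := (Nat.Coprime.pow_left _ ((Nat.Prime.coprime_iff_not_dvd hp.out).2 h1)).dvd_of_dvd_mul_right h5
  exact (Nat.Coprime.pow_left _ ((Nat.Prime.coprime_iff_not_dvd hp.out).2 fun h3 => h1
    (h3.trans (ht.trans (Nat.gcd_dvd_right _ _))))).dvd_of_dvd_mul_right h6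

/-- **`p ∤ q - 1`, `n ≥ 3`** -/
theorem hasDZ_of_not_dvd {r p : ℕ} [Fact r.Prime] [CharP F r] [hp : Fact p.Prime] (hpr : p ≠ r) {n : ℕ} (hn : 3 ≤ n)
    (h1 : ¬ p ∣ Fintype.card F - 1) : HasDZ p (ProjectiveSpecialLinearGroup (Fin n) F) := by
  by_cases h2 : p ∣ Fintype.card F ^ n - 1
  · obtain ⟨j, rfl⟩ : ∃ j, n = j + 2 + 1 := ⟨n - 3, by omega⟩
    refine hasDZ_hyper (r := r) hpr h1 fun h3 => h1 ?_
    have hq2 : 2 ≤ Fintype.card F := Fintype.one_lt_card
    have e1 : Fintype.card F ^ (j + 2 + 1) - 1 =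
        Fintype.card F * (Fintype.card F ^ (j + 2) - 1) + (Fintype.card F - 1) := by
      have h2 : 1 ≤ Fintype.card F ^ (j + 2) := Nat.one_le_pow _ _ (by omega)
      obtain ⟨c, hc⟩ : ∃ c, Fintype.card F ^ (j + 2) = c + 1 := ⟨Fintype.card F ^ (j + 2) - 1, by omega⟩
      rw [pow_succ, hc, Nat.add_sub_cancel, add_mul, one_mul, mul_comm]
      omega
    rw [e1] at h2
    exact (Nat.dvd_add_right (h3.mul_left _)).1 h2
  · obtain ⟨m, rfl⟩ : ∃ m, n = m + 2 := ⟨n - 2, by omega⟩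
    refine hasDZ_cusp (r := r) hpr (fun h => h1 (h.trans (Nat.gcd_dvd_right _ _))) fun A N h => ?_
    exact ((Nat.Coprime.pow_left _ ((Nat.Prime.coprime_iff_not_dvd hp.out).2 h2)).dvd_of_dvd_mul_right h).mul_right _

/-- **`p ∣ q - 1`, `p ∤ n`** -/
theorem hasDZ_of_dvd {r p : ℕ} [Fact r.Prime] [CharP F r] [hp : Fact p.Prime] (hpr : p ≠ r) {n : ℕ} (hn : 2 ≤ n)
    (h1 : p ∣ Fintype.card F - 1) (h2 : ¬ p ∣ n) : HasDZ p (ProjectiveSpecialLinearGroup (Fin n) F) := by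
  obtain ⟨m, rfl⟩ : ∃ m, n = m + 2 := ⟨n - 2, by omega⟩
  refine hasDZ_cusp (r := r) hpr (fun h => h2 (h.trans (Nat.gcd_dvd_left _ _))) fun A N h => ?_
  have hq2 : 2 ≤ Fintype.card F := Fintype.one_lt_card
  obtain ⟨x, hx⟩ : ∃ x, Fintype.card F = x + 1 := ⟨Fintype.card F - 1, by omega⟩
  rw [hx, Nat.add_sub_cancel] at h1
  rw [hx] at h
  rw [hx, Nat.add_sub_cancel]
  have h3 : (x + 1) ^ (m + 2) - 1 = (∑ i ∈ Finset.range (m + 2), (x + 1) ^ i) * x := by
    rw [← geom_sum_mul_add x (m + 2), Nat.add_sub_cancel]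
  have h4 : ¬ p ∣ ∑ i ∈ Finset.range (m + 2), (x + 1) ^ i := by
    intro h5
    apply h2
    rw [← ZMod.natCast_eq_zero_iff] at h5 h1 ⊢
    rw [Nat.cast_sum] at h5
    simp only [Nat.cast_pow, Nat.cast_add, h1, Nat.cast_one, zero_add, one_pow, Finset.sum_const,
      Finset.card_range, nsmul_eq_mul, mul_one] at h5
    push_cast
    exact_mod_cast h5
  rw [h3, mul_comm (∑ i ∈ Finset.range (m + 2), (x + 1) ^ i) x, ← mul_assoc] at h
  exact (Nat.Coprime.pow_left _ ((Nat.Prime.coprime_iff_not_dvd hp.out).2 h4)).dvd_of_dvd_mul_right h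

end Cfsg.Agent.H686.VO.PSL
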