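import Cfsg.Agent.H686.VO.Tools
import Cfsg.Agent.H477.HC.RowSp
import Cfsg.Agent.H477.HC.RowO

/-!
# Defect zero for `PSp_{2m}(q)`, `p ∤ q² - 1` (helper686)
-/

set_option autoImplicit false

namespace Cfsg.Agent.H686.VO

open Cfsg Cfsg.Agent.Characters Module Cfsg.Agent.H53.HC Cfsg.Agent.H477.HC Cfsg.Agent.H665.NoPQ

/-- the `p`-part of `|PSp|` -/
theorem pow_dvd_prod (K : Type) [Field K] [Finite K] {r : ℕ} [Fact r.Prime] [CharP K r] {m p : ℕ} (hp : p.Prime)
    (hpr : p ≠ r) {N : ℕ} (hN : p ^ N ∣ Nat.card (PSp m K)) :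
    p ^ N ∣ ∏ i ∈ Finset.range m, (Nat.card K ^ (2 * (i + 1)) - 1) := by
  have hr : r.Prime := Fact.out
  obtain ⟨s, hs⟩ := card_pow K r
  have hrq : ¬ p ∣ Nat.card K := by
    rw [hs]; intro h; exact hpr ((Nat.prime_dvd_prime_iff_eq hp hr).1 (hp.dvd_of_dvd_pow h))
  have hd1 : p ^ N ∣ Nat.card (Matrix.symplecticGroup (Fin m) K) := hN.trans (Subgroup.card_quotient_dvd_card _)
  rw [Nat.card_congr (isoSp m K).toEquiv, card_spF] at hd1
  refine (Nat.Coprime.pow_left N ?_).dvd_of_dvd_mul_left hd1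
  rw [Nat.Prime.coprime_iff_not_dvd hp]
  exact fun h => hrq (hp.dvd_of_dvd_pow h)

theorem hasDZ_of_deg {S : Type*} [Group S] [Finite S] {p : ℕ} [hp : Fact p.Prime] {χ : S → ℂ}
    (hχ : IsIrrCharacter S χ) {d : ℕ} (hd : χ 1 = d) (h : p ^ (Nat.card S).factorization p ∣ d) : HasDZ p S := by
  refine ⟨⟨χ, hχ⟩, le_antisymm ?_ ?_⟩
  · exact (Nat.factorization_le_iff_dvd (Cfsg.Agent.Blocks.Basic.charDegree_pos hχ).ne' Nat.card_pos.ne').2
      (Cfsg.Agent.Blocks.Knorr.charDegree_dvd hχ) p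
  · have h1 : charDegree χ = d := Cfsg.Agent.Blocks.Basic.charDegree_of_eq hd
    change _ ≤ (charDegree χ).factorization p
    refine (hp.out.pow_dvd_iff_le_factorization (Cfsg.Agent.Blocks.Basic.charDegree_pos hχ).ne').1 ?_
    rw [h1]
    exact h

/-- **`PSp_{2m}(q)` has a character of `p`-defect zero if `p ∤ q² - 1`** -/
theorem hasDZ_psp (K : Type) [Field K] [Finite K] {r : ℕ} [Fact r.Prime] [CharP K r] {m p : ℕ} [hp : Fact p.Prime]
    (hm : 2 ≤ m) (hpr : p ≠ r) (h1 : ¬ p ∣ Nat.card K ^ 2 - 1) (h3 : m = 2 → 4 ≤ Nat.card K)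
    (h32 : m = 3 → Nat.card K = 2 → p ≠ 7) (h33 : m = 3 → Nat.card K = 3 → p ≠ 13) : HasDZ p (PSp m K) := by
  classical
  have hr : r.Prime := Fact.out
  have hq2 : 2 ≤ Nat.card K := Finite.one_lt_card
  have hfin : Finite (PSp m K) := inferInstance
  have hN := pow_dvd_prod K (m := m) hp.out hpr (Nat.ordProj_dvd (Nat.card (PSp m K)) p)
  by_cases hA : p ∣ Nat.card K ^ m - 1
  · -- `k = m - 1`
    have hm3 : 3 ≤ m := by
      by_contra h
      have : m = 2 := by omega
      subst this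
      exact h1 hA
    obtain ⟨k, rfl⟩ : ∃ k, m = k + 1 := ⟨m - 1, by omega⟩
    have hk1 : ¬ p ∣ Nat.card K ^ k - 1 := by
      intro h
      apply h1
      have e1 : Nat.card K ^ (k + 1) - 1 = Nat.card K * (Nat.card K ^ k - 1) + (Nat.card K - 1) := by
        have h2 : 1 ≤ Nat.card K ^ k := Nat.one_le_pow _ _ (by omega)
        obtain ⟨c, hc⟩ : ∃ c, Nat.card K ^ k = c + 1 := ⟨Nat.card K ^ k - 1, by omega⟩
        rw [pow_succ, hc, Nat.add_sub_cancel, add_mul, one_mul, mul_comm]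
        omega
      rw [e1] at hA
      have h2 := (Nat.dvd_add_right (h.mul_left _)).1 hA
      have h4 : Nat.card K - 1 ∣ Nat.card K ^ 2 - 1 := by simpa using Nat.sub_dvd_pow_sub_pow (Nat.card K) 1 2
      exact h2.trans h4
    obtain ⟨c, hc⟩ := exists_cus_sq K rfl k (by omega) (fun h => by
        by_contra h'
        have hk2 : k = 2 := by omega
        subst hk2
        apply h32 rfl h
        rw [h] at hA
        exact ((Nat.prime_dvd_prime_iff_eq hp.out (by norm_num)).1 (by norm_num at hA; exact hA)))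
      (fun h => by
        by_contra h'
        have hk2 : k = 2 := by omega
        subst hk2
        apply h33 rfl h
        rw [h] at hA h1
        have h5 : p ∣ 2 * 13 := by norm_num at hA; exact hA
        rcases hp.out.dvd_mul.1 h5 with h6 | h6
        · exfalso
          have h7 : p = 2 := (Nat.prime_dvd_prime_iff_eq hp.out Nat.prime_two).1 h6
          apply h1
          rw [h7]
          norm_num
        · exact (Nat.prime_dvd_prime_iff_eq hp.out (by norm_num)).1 h6) (fun h => by omega)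
    obtain ⟨χ, hχ, hχ1⟩ := psp_char (k := k) (n := 1) hc (one_pow 2) (neg_one_sq)
    obtain ⟨e, he⟩ := psp_dvd K (p := r) (k := k) (n := 1) (by omega)
    refine hasDZ_of_deg hχ hχ1 ?_
    have h5 : p ^ (Nat.card (PSp (k + 1) K)).factorization p ∣
        ∏ i ∈ Finset.Ico 1 (k + 1), (Nat.card K ^ (2 * (i + 1)) - 1) := by
      rw [← Finset.prod_range_mul_prod_Ico _ (show 1 ≤ k + 1 by omega), Finset.prod_range_one] at hN
      refine (Nat.Coprime.pow_left _ ?_).dvd_of_dvd_mul_left hN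
      rw [Nat.Prime.coprime_iff_not_dvd hp.out]
      exact h1
    have h6 := prime_pow_dvd hp.out hr hpr (h5.trans he)
    exact (Nat.Coprime.pow_left _ ((Nat.Prime.coprime_iff_not_dvd hp.out).2 hk1)).dvd_of_dvd_mul_right h6
  · -- `k = m`
    obtain ⟨c, hc⟩ := exists_cus_sq K rfl m (by omega) (fun h => by
        by_contra h'
        have := h3 (by omega)
        omega) (fun h => by
        by_contra h'
        have := h3 (by omega)
        omega) (fun h => by omega)
    obtain ⟨χ, hχ, hχ1⟩ := psp_char (k := m) (n := 0) hc (one_pow 2) (neg_one_sq)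
    obtain ⟨e, he⟩ := psp_dvd_top K (p := r) (m := m) (by omega)
    refine hasDZ_of_deg (S := PSp (m + 0) K) hχ hχ1 ?_
    obtain ⟨j, rfl⟩ : ∃ j, m = j + 1 := ⟨m - 1, by omega⟩
    rw [Finset.prod_range_succ, sq_sub, ← mul_assoc] at hN
    have h5 := (Nat.Coprime.pow_left _ ((Nat.Prime.coprime_iff_not_dvd hp.out).2 hA)).dvd_of_dvd_mul_right hN
    rw [mul_comm] at h5
    exact prime_pow_dvd hp.out hr hpr (h5.trans he)

end Cfsg.Agent.H686.VO
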