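import Cfsg.Agent.H690.Spor.RankThree

/-!
# Degrees in rank 3 permutation characters, given the eigenvalues (helper686)
-/

set_option autoImplicit false
set_option linter.unusedSectionVars false

namespace Cfsg.Agent.H686.VO.RankThree

open Cfsg Cfsg.Agent.Characters.Core Cfsg.Agent.H665.NoPQ Cfsg.Agent.H690.Spor.RankThree
  Cfsg.Agent.H690.Spor.RankThree.R3
open scoped ComplexConjugate

variable {G X : Type*} [Group G] [MulAction G X] {R : X → X → Prop} {k l : ℕ}
  [Fintype X] [DecidableEq X] [DecidableRel R]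

/-- the degree of one of the two characters -/
theorem degree [Finite G] (h : R3 G X R k l) {a b : ℕ} (hab : ∀ x y, ∑ z, adj R x z * adj R z y =
    (k - b : ℂ) * dia x y + (a - b : ℂ) * adj R x y + b) {r s : ℤ} (hsr : s ≠ r) (hr1 : r + s = a - b)
    (hr2 : r * s = b - k) (hf0 : s * (k + l) + k ≠ 0) (hg0 : r * (k + l) + k ≠ 0) :
    ∃ (χ : IrrCharacter G) (f : ℕ), (χ : G → ℂ) 1 = f ∧ (f : ℤ) * (r - s) = -(s * (k + l) + k) := by
  have := Fintype.ofFinite G
  have hn := h.cardn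
  have hdC : ((r : ℂ) - s) ≠ 0 := by
    intro h0
    apply hsr
    have h3 : (r : ℂ) = s := sub_eq_zero.1 h0
    exact (by exact_mod_cast h3 : r = s).symm
  have h1 : (r : ℂ) + s = a - b := by exact_mod_cast congrArg (Int.cast : ℤ → ℂ) hr1
  have h2 : (r : ℂ) * s = b - k := by exact_mod_cast congrArg (Int.cast : ℤ → ℂ) hr2
  have hrs' : (r : ℂ) ≠ s := sub_ne_zero.1 hdC
  have hchar : ∀ u v : ℂ, u ≠ v → u + v = a - b → u * v = b - k →
      IsCharacter G (fun g : G => ∑ x : X, ker R k (Nat.card X) u v x (g • x)) := by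
    intro u v huv h3 h4
    exact Cfsg.Agent.H651.isCharacter_sum_perm (MulAction.toPermHom G X) (ker R k (Nat.card X) u v)
      (h.ker_mul hab huv h3 h4) (fun g x y => h.ker_smul _ u v g x y)
  have hc1 := hchar r s hrs' h1 h2
  have hc2 := hchar s r hrs'.symm (by rw [add_comm]; exact h1) (by rw [mul_comm]; exact h2)
  set θ₁ : G → ℂ := fun g : G => ∑ x : X, ker R k (Nat.card X) r s x (g • x) with hθ₁
  set θ₂ : G → ℂ := fun g : G => ∑ x : X, ker R k (Nat.card X) s r x (g • x) with hθ₂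
  have hnC : (Nat.card X : ℂ) ≠ 0 := by
    have : Nat.card X ≠ 0 := by omega
    exact_mod_cast this
  have hval : ∀ u v : ℂ, ∀ g : G, ∑ x : X, ker R k (Nat.card X) u v x (g • x) =
      (u - v)⁻¹ * (∑ x : X, adj R x (g • x) - v * (Nat.card (MulAction.fixedBy X g) : ℂ) - (k - v)) := by
    intro u v g
    unfold ker
    rw [← Finset.mul_sum, Finset.sum_sub_distrib, Finset.sum_sub_distrib, ← Finset.mul_sum, sum_dia_smul,
      Finset.sum_const, Finset.card_univ, ← Nat.card_eq_fintype_card, nsmul_eq_mul]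
    congr 2
    field_simp
  have hsum : (fun g : G => (Nat.card (MulAction.fixedBy X g) : ℂ) - 1) = θ₁ + θ₂ := by
    funext g
    show _ = θ₁ g + θ₂ g
    rw [hθ₁, hθ₂]
    simp only [hval]
    have h3 : ((s : ℂ) - r)⁻¹ = -((r : ℂ) - s)⁻¹ := by rw [← neg_sub, inv_neg]
    rw [h3]
    have h4 : ((r : ℂ) - s)⁻¹ * (r - s) = 1 := inv_mul_cancel₀ hdC
    linear_combination (-(Nat.card (MulAction.fixedBy X g) : ℂ) + 1) * h4
  have hnorm := h.norm_two (G := G)
  rw [hsum, classInner_add_left, classInner_add_right, classInner_add_right] at hnorm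
  have hone : ∑ x : X, adj R x ((1 : G) • x) = 0 := by
    refine Finset.sum_eq_zero fun x _ => ?_
    unfold adj
    rw [one_smul, if_neg (h.irr x)]
  have hfix1 : Nat.card (MulAction.fixedBy X (1 : G)) = Nat.card X := by
    rw [MulAction.fixedBy_one_eq_univ]
    exact Nat.card_univ
  have hn' : (Nat.card X : ℂ) = 1 + k + l := by exact_mod_cast hn
  have hdeg1 : θ₁ 1 * (r - s) = -(s * (k + l) + k) := by
    rw [hθ₁]
    simp only [hval]
    rw [hone, hfix1, hn']
    have h4 : ((r : ℂ) - s)⁻¹ * (r - s) = 1 := inv_mul_cancel₀ hdC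
    linear_combination (0 - (s : ℂ) * (1 + k + l) - (k - s)) * h4
  have hdeg2 : θ₂ 1 * (r - s) = r * (k + l) + k := by
    rw [hθ₂]
    simp only [hval]
    have h3 : ((s : ℂ) - r)⁻¹ = -((r : ℂ) - s)⁻¹ := by rw [← neg_sub, inv_neg]
    rw [hone, hfix1, hn', h3]
    have h4 : ((r : ℂ) - s)⁻¹ * (r - s) = 1 := inv_mul_cancel₀ hdC
    linear_combination (0 - (0 - (r : ℂ) * (1 + k + l) - (k - r))) * h4
  obtain ⟨f, hf⟩ := isCharacter_apply_one hc1
  obtain ⟨g, hg⟩ := isCharacter_apply_one hc2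
  have hfZ : (f : ℤ) * (r - s) = -(s * (k + l) + k) := by
    have h3 := hdeg1
    have h4 : θ₁ 1 = (f : ℂ) := hf
    rw [h4] at h3
    exact_mod_cast h3
  have hgZ : (g : ℤ) * (r - s) = r * (k + l) + k := by
    have h3 := hdeg2
    have h4 : θ₂ 1 = (g : ℂ) := hg
    rw [h4] at h3
    exact_mod_cast h3
  have hf0' : f ≠ 0 := by
    rintro rfl
    rw [Nat.cast_zero, zero_mul] at hfZ
    apply hf0
    linarith
  have hg0' : g ≠ 0 := by
    rintro rfl
    rw [Nat.cast_zero, zero_mul] at hgZ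
    exact hg0 hgZ.symm
  -- norms
  obtain ⟨m11, hm11⟩ := classInner_isNat hc1 hc1
  obtain ⟨m12, hm12⟩ := classInner_isNat hc1 hc2
  obtain ⟨m21, hm21⟩ := classInner_isNat hc2 hc1
  obtain ⟨m22, hm22⟩ := classInner_isNat hc2 hc2
  rw [hm11, hm12, hm21, hm22] at hnorm
  have hnormN : m11 + m12 + (m21 + m22) = 2 := by exact_mod_cast hnorm
  have h11 : m11 ≠ 0 := by
    rintro rfl
    have h3 := classInner_self_eq_zero (φ := θ₁) (by rw [hm11]; simp)
    rw [h3] at hf
    apply hf0'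
    have : (f : ℂ) = 0 := by rw [← hf]; rfl
    exact_mod_cast this
  have h22 : m22 ≠ 0 := by
    rintro rfl
    have h3 := classInner_self_eq_zero (φ := θ₂) (by rw [hm22]; simp)
    rw [h3] at hg
    apply hg0'
    have : (g : ℂ) = 0 := by rw [← hg]; rfl
    exact_mod_cast this
  have hm1 : m11 = 1 := by omega
  have hi1 : IsIrrCharacter G θ₁ := isIrr_of_classInner_self hc1 (by rw [hm11, hm1]; simp)
  exact ⟨⟨θ₁, hi1⟩, f, hf, hfZ⟩

/-- the second parameter is positive if two non-neighbours have a common neighbour -/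
theorem pos_of_common {a b : ℕ} (hab : ∀ x y, ∑ z, adj R x z * adj R z y =
    (k - b : ℂ) * dia x y + (a - b : ℂ) * adj R x y + b) {x y z : X} (hxy : x ≠ y) (hR : ¬ R x y) (h1 : R x z)
    (h2 : R z y) : 0 < b := by
  have h3 := hab x y
  rw [sum_mul] at h3
  unfold dia adj at h3
  rw [if_neg hxy, if_neg hR, mul_zero, mul_zero, zero_add, zero_add] at h3
  have h4 : com R x y = b := by exact_mod_cast h3
  rw [← h4]
  unfold com
  have : Nonempty {z // R x z ∧ R z y} := ⟨⟨z, h1, h2⟩⟩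
  exact Nat.card_pos

end Cfsg.Agent.H686.VO.RankThree
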