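import Cfsg.Agent.H387.VO.Main
import Cfsg.Agent.H620.Kill
import Cfsg.Agent.H665.NoPQ

/-!
# Tools for the rows of S4987 (helper686)
-/

set_option autoImplicit false

namespace Cfsg.Agent.H686.VO

open Cfsg Cfsg.Agent.H387.VO Cfsg.Agent.H620 Cfsg.Agent.H665.NoPQ

/-- the `p`-part is `p` -/
theorem row_of_not_sq {S : Type*} [Group S] [Finite S] {p : ℕ} [hp : Fact p.Prime] (h1 : p ∣ Nat.card S)
    (h2 : ¬ p ^ 2 ∣ Nat.card S) : Row p S := by
  left
  have hn : Nat.card S ≠ 0 := Nat.card_pos.ne'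
  have h3 : 1 ≤ (Nat.card S).factorization p := hp.out.factorization_pos_of_dvd hn h1
  have h4 : ¬ 2 ≤ (Nat.card S).factorization p := fun h4 => h2 ((hp.out.pow_dvd_iff_le_factorization hn).2 h4)
  omega

theorem kill_of_hasDZ {S : Type*} [Group S] [Finite S] {p : ℕ} [hp : Fact p.Prime] (h : HasDZ p S) : Kill S p := by
  obtain ⟨χ, hχ⟩ := h
  exact kill_of_dz p χ hχ

/-- one character vanishing on the elements of order divisible by `t`, two orders -/
theorem twoVan_of_kill {S : Type*} [Group S] {p t a b : ℕ} (hk : Kill S t) (ha : ∃ x : S, orderOf x = a)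
    (hb : ∃ x : S, orderOf x = b) (hpa : p ∣ a) (hpb : p ∣ b) (hta : t ∣ a) (htb : t ∣ b) (hab : a ≠ b) :
    TwoVan p S := by
  obtain ⟨x, rfl⟩ := ha
  obtain ⟨y, rfl⟩ := hb
  exact TwoVan.of_order hpa hpb (hk.vz hta) (hk.vz htb) hab

/-- two characters -/
theorem twoVan_of_kill_two {S : Type*} [Group S] {p t u a b : ℕ} (hk : Kill S t) (hk' : Kill S u)
    (ha : ∃ x : S, orderOf x = a)
    (hb : ∃ x : S, orderOf x = b) (hpa : p ∣ a) (hpb : p ∣ b) (hta : t ∣ a) (htb : u ∣ b) (hab : a ≠ b) :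
    TwoVan p S := by
  obtain ⟨x, rfl⟩ := ha
  obtain ⟨y, rfl⟩ := hb
  exact TwoVan.of_order hpa hpb (hk.vz hta) (hk'.vz htb) hab

/-- commuting elements of coprime orders -/
theorem exists_mul {S : Type*} [Group S] {x y : S} (h : x * y = y * x) (hc : Nat.Coprime (orderOf x) (orderOf y)) :
    ∃ z : S, orderOf z = orderOf x * orderOf y :=
  ⟨x * y, Commute.orderOf_mul_eq_mul_orderOf_of_coprime h hc⟩

/-- elements of order `p ^ k` in a quotient by a subgroup whose elements have `m`-th power `1`, `p ∤ m` -/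
theorem orderOf_mk {G : Type*} [Group G] [Finite G] (Z : Subgroup G) [Z.Normal] {p : ℕ} [hp : Fact p.Prime] {m : ℕ}
    (hm : ¬ p ∣ m) (hZ : ∀ z ∈ Z, z ^ m = 1) {g : G} {k : ℕ} (hg : orderOf g = p ^ k) :
    orderOf (QuotientGroup.mk' Z g) = p ^ k := by
  apply Nat.dvd_antisymm
  · rw [← hg]
    exact orderOf_map_dvd _ g
  · have h1 : QuotientGroup.mk' Z (g ^ orderOf (QuotientGroup.mk' Z g)) = 1 := by
      rw [map_pow, pow_orderOf_eq_one]
    rw [QuotientGroup.mk'_apply, QuotientGroup.eq_one_iff] at h1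
    have h2 := hZ _ h1
    rw [← pow_mul, ← orderOf_dvd_iff_pow_eq_one, hg] at h2
    exact (Nat.Coprime.pow_left k ((hp.out.coprime_iff_not_dvd).2 hm)).dvd_of_dvd_mul_right h2

end Cfsg.Agent.H686.VO
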